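import Groth.Agent.RamSamLib.DepthTwo
import Groth.Agent.ParaFLiftLib.Tilde
import Groth.Agent.ParaFLib.Punctured

/-!
# Power series over a complete local ring of depth two are parafactorial
-/

set_option autoImplicit false
set_option linter.style.haveILetI false
set_option linter.unusedSectionVars false
set_option maxHeartbeats 1000000

universe u

open IsLocalRing Polynomial RingTheory.Sequence Pointwise

namespace Groth.Agent.RamSamLib

variable {A : Type u} [CommRing A] [IsLocalRing A] [IsNoetherianRing A] [IsAdicComplete (maximalIdeal A) A]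

/-- Regular pairs in high powers of the maximal ideal. -/
theorem exists_regular_pair (hd : (2 : ℕ∞) ≤ LocCoh.depth A A) : ∃ x ∈ maximalIdeal A, ∃ y ∈ maximalIdeal A,
    (∀ z, x * z = 0 → z = 0) ∧ ∀ z, x ∣ y * z → x ∣ z := by
  have hne : maximalIdeal A • (⊤ : Submodule A A) ≠ ⊤ := by
    rw [smul_eq_mul, Ideal.mul_top]; exact Ideal.IsPrime.ne_top'
  obtain ⟨s, hs, hsm, hsw⟩ := (Groth.Agent.Depth.le_idealDepth_iff (R := A) (M := A) (I := maximalIdeal A) hne 2).mp hd
  obtain ⟨x, y, rfl⟩ := List.length_eq_two.mp hs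
  rw [isWeaklyRegular_cons_iff, isWeaklyRegular_singleton_iff] at hsw
  have h1 : ∀ z, x * z = 0 → z = 0 := fun z hz => hsw.1 (by simpa using hz)
  have hspan : ∀ z : A, z ∈ (x • ⊤ : Submodule A A) ↔ x ∣ z := fun z => by
    rw [← Submodule.ideal_span_singleton_smul, smul_eq_mul, Ideal.mul_top, Ideal.mem_span_singleton]
  refine ⟨x, hsm x (by simp), y, hsm y (by simp), h1, fun z hz => ?_⟩
  rw [← hspan] at hz ⊢
  have h3 : y • (Submodule.Quotient.mk z : QuotSMulTop x A) = y • (0 : QuotSMulTop x A) := by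
    rw [smul_zero, ← Submodule.Quotient.mk_smul]
    exact (Submodule.Quotient.mk_eq_zero _).2 hz
  exact (Submodule.Quotient.mk_eq_zero _).1 (hsw.2 h3)

theorem exists_pow_maximalIdeal_le {a : Ideal A} (h : ∀ q : PrimeSpectrum A, q.asIdeal ≠ maximalIdeal A → ¬ a ≤ q.asIdeal) :
    ∃ N, maximalIdeal A ^ N ≤ a := by
  refine Ideal.exists_pow_le_of_le_radical_of_fg ?_ (IsNoetherian.noetherian _)
  rw [Ideal.radical_eq_sInf]
  refine le_sInf fun P ⟨hle, hP⟩ => ?_
  by_contra hPm
  exact h ⟨P, hP⟩ (fun e => hPm e.ge) hle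

/-- An element killed locally on the punctured spectrum vanishes. -/
theorem eq_zero_of_local (hd : (2 : ℕ∞) ≤ LocCoh.depth A A) (c : A)
    (h : ∀ q : PrimeSpectrum A, q.asIdeal ≠ maximalIdeal A → ∃ a ∉ q.asIdeal, a * c = 0) : c = 0 := by
  obtain ⟨x, hx, y, hy, h1, h2⟩ := exists_regular_pair hd
  obtain ⟨N, hN⟩ := exists_pow_maximalIdeal_le (a := (Submodule.span A {c}).annihilator) fun q hq hle => by
    obtain ⟨a, ha, hac⟩ := h q hq
    exact ha (hle ((Submodule.mem_annihilator_span_singleton _ _).2 hac))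
  exact ((S0335.pow_reg h1 h2 N).1 c ((Submodule.mem_annihilator_span_singleton _ _).1 (hN (Ideal.pow_mem_pow hx N))))

variable {G : A[X]} (hG : G.IsDistinguishedAt (maximalIdeal A)) (I : Ideal (PowerSeries A))
  (hGI : (G : PowerSeries A) ∈ I)
  (hI : ∀ p : PrimeSpectrum (PowerSeries A), p.asIdeal ≠ maximalIdeal (PowerSeries A) →
    ∃ i ∈ I, ∃ h ∉ p.asIdeal, ∀ z ∈ I, h * z ∈ Ideal.span {i})

include hG in
/-- Division with remainder by a distinguished polynomial. -/
theorem exists_eq_mul_add (b : PowerSeries A) :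
    ∃ (u : PowerSeries A) (p : A[X]), p.degree < G.natDegree ∧ b = (G : PowerSeries A) * u + (p : PowerSeries A) := by
  obtain ⟨p, hp⟩ := Ideal.Quotient.mk_surjective (hG.algEquivQuotient.symm (Ideal.Quotient.mk _ b))
  have he : hG.algEquivQuotient (Ideal.Quotient.mk _ p) = Ideal.Quotient.mk _ (p : PowerSeries A) := by simp
  have h1 : Ideal.Quotient.mk (Ideal.span {(G : PowerSeries A)}) (p : PowerSeries A) = Ideal.Quotient.mk _ b := by
    rw [← he, hp, AlgEquiv.apply_symm_apply]
  obtain ⟨u, hu⟩ := Ideal.mem_span_singleton.1 (Ideal.Quotient.eq.1 h1.symm)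
  refine ⟨u + ((p /ₘ G : A[X]) : PowerSeries A), p %ₘ G, ?_, ?_⟩
  · rw [← degree_eq_natDegree hG.monic.ne_zero]; exact degree_modByMonic_lt p hG.monic
  · have h2 := congrArg (fun f : A[X] => (f : PowerSeries A)) (modByMonic_add_div p G)
    simp only [Polynomial.coe_add, Polynomial.coe_mul] at h2
    linear_combination hu - h2

include hG hGI hI

/-- **A relative divisor over the punctured base is cut out by a distinguished polynomial.** -/
theorem exists_divisor (hd : (2 : ℕ∞) ≤ LocCoh.depth A A) :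
    ∃ χ : PowerSeries A, (∀ z, χ * z = 0 → z = 0) ∧ (∀ b ∈ I, χ ∣ b) ∧
      ∀ p : PrimeSpectrum (PowerSeries A), p.asIdeal ≠ maximalIdeal (PowerSeries A) →
        ∃ b ∈ I, ∃ w ∉ p.asIdeal, b = χ * w := by
  classical
  let S := PowerSeries A ⧸ I
  let t : S := Ideal.Quotient.mk I PowerSeries.X
  let mkP : A[X] →ₐ[A] S := (Ideal.Quotient.mkₐ A I).comp (Polynomial.coeToPowerSeries.algHom A)
  have hmkP : ∀ p : A[X], Ideal.Quotient.mk I (p : PowerSeries A) = aeval t p := by
    intro p
    have : mkP = aeval t := Polynomial.algHom_ext (by simp [mkP, t])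
    rw [← this]
    simp [mkP]
  have hsurj : ∀ s : S, ∃ p : A[X], p.degree < G.natDegree ∧ aeval t p = s := by
    intro s
    obtain ⟨b, rfl⟩ := Ideal.Quotient.mk_surjective s
    obtain ⟨u, p, hp, rfl⟩ := exists_eq_mul_add hG b
    exact ⟨p, hp, by rw [map_add, Ideal.Quotient.eq_zero_iff_mem.2 (Ideal.mul_mem_right _ _ hGI), zero_add, hmkP]⟩
  have ht : Algebra.adjoin A {t} = ⊤ := top_le_iff.1 fun s _ => by
    obtain ⟨p, -, rfl⟩ := hsurj s
    rw [Algebra.adjoin_singleton_eq_range_aeval]; exact ⟨p, rfl⟩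
  haveI : Module.Finite A S := by
    haveI : Module.Finite A (degreeLT A G.natDegree) := Module.Finite.equiv (degreeLTEquiv A G.natDegree).symm
    refine Module.Finite.of_surjective ((aeval t : A[X] →ₐ[A] S).toLinearMap.comp (degreeLT A G.natDegree).subtype)
      fun s => ?_
    obtain ⟨p, hp, rfl⟩ := hsurj s
    exact ⟨⟨p, mem_degreeLT.2 hp⟩, rfl⟩
  haveI : Module.FinitePresentation A S := Module.finitePresentation_of_finite A S
  have hfree : ∀ q : PrimeSpectrum A, q.asIdeal ≠ maximalIdeal A → q ∈ Module.freeLocus A S :=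
    fun q hq => mem_freeLocus hG I hGI hI q hq
  -- the rank is constant on the punctured spectrum
  let U := {x : PrimeSpectrum A | x.asIdeal ≠ maximalIdeal A}
  have hU : IsConnected U := S0335.result A hd
  obtain ⟨q₀, hq₀⟩ := hU.nonempty
  let r := Module.rankAtStalk S q₀
  have hrank : ∀ q : PrimeSpectrum A, q.asIdeal ≠ maximalIdeal A → Module.rankAtStalk S q = r := by
    intro q hq
    haveI : PreconnectedSpace U := Subtype.preconnectedSpace hU.isPreconnected
    let ι : U → Module.freeLocus A S := fun x => ⟨x.1, hfree x.1 x.2⟩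
    have hι : Continuous ι := continuous_subtype_val.subtype_mk _
    exact ((Module.isLocallyConstant_rankAtStalk_freeLocus (R := A) (M := S)).comp_continuous hι).apply_eq_of_preconnectedSpace
      (⟨q, hq⟩ : U) ⟨q₀, hq₀⟩
  let θ := monomialMap (A := A) t r
  have hloc := fun q (hq : PrimeSpectrum.asIdeal q ≠ maximalIdeal A) =>
    monomials_basis t ht r q (hfree q hq) (hrank q hq)
  have hθinj : ∀ c, θ c = 0 → c = 0 := fun c hc => funext fun i =>
    eq_zero_of_local hd (c i) fun q hq => (hloc q hq).2 c hc i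
  -- the coefficients
  obtain ⟨x, hx, y, hy, h1, h2⟩ := exists_regular_pair hd
  let 𝔞 : Ideal A := (LinearMap.range θ).comap (LinearMap.toSpanSingleton A S (t ^ r))
  obtain ⟨N, hN⟩ := exists_pow_maximalIdeal_le (a := 𝔞) fun q hq hle => by
    obtain ⟨a, ha, hmem⟩ := (hloc q hq).1 (t ^ r)
    exact ha (hle hmem)
  obtain ⟨hxN, hyN⟩ := S0335.pow_reg h1 h2 N
  obtain ⟨ca, hca⟩ : ∃ ca, θ ca = x ^ N • t ^ r := hN (Ideal.pow_mem_pow hx N)
  obtain ⟨cb, hcb⟩ : ∃ cb, θ cb = y ^ N • t ^ r := hN (Ideal.pow_mem_pow hy N)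
  have hab : y ^ N • ca = x ^ N • cb := sub_eq_zero.1 (hθinj _ (by
    rw [map_sub, map_smul, map_smul, hca, hcb, smul_comm, sub_self]))
  choose c hc using fun i => hyN (ca i) ⟨cb i, congrFun hab i⟩
  have hxt : x ^ N • (t ^ r - θ c) = 0 := by
    rw [smul_sub, ← map_smul, sub_eq_zero, ← hca]
    exact congrArg θ (funext fun i => hc i)
  have hrel : ∀ q : PrimeSpectrum A, q.asIdeal ≠ maximalIdeal A → ∃ a ∉ q.asIdeal, a • (t ^ r - θ c) = 0 := by
    intro q hq
    obtain ⟨a, ha, d, hd'⟩ := (hloc q hq).1 (t ^ r - θ c)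
    refine ⟨a, ha, ?_⟩
    rw [← hd']
    suffices d = 0 by rw [this, map_zero]
    refine funext fun i => hxN (d i) ?_
    have : θ (x ^ N • d) = 0 := by rw [map_smul, hd', smul_comm, hxt, smul_zero]
    exact congrFun (hθinj _ this) i
  let pc : A[X] := ∑ i : Fin r, monomial (i : ℕ) (c i)
  have hpcdeg : pc.degree < r := by
    refine lt_of_le_of_lt (degree_sum_le _ _) ((Finset.sup_lt_iff (WithBot.bot_lt_coe _)).2 fun i _ =>
      lt_of_le_of_lt (degree_monomial_le _ _) (WithBot.coe_lt_coe.2 i.2))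
  let χ : A[X] := X ^ r - pc
  have hχm : χ.Monic := monic_X_pow_sub hpcdeg
  have hχdeg : χ.natDegree = r := by
    apply natDegree_eq_of_degree_eq_some
    rw [degree_sub_eq_left_of_degree_lt (by rw [degree_X_pow]; exact hpcdeg), degree_X_pow]
  have hcoeff : ∀ p : A[X], p.degree < r → aeval t p = θ (fun i => p.coeff i) := by
    intro p hp
    show aeval t p = monomialMap (A := A) t r _
    rw [monomialMap_apply, Fin.sum_univ_eq_sum_range (fun i => p.coeff i • t ^ i) r]
    rw [aeval_eq_sum_range' (n := r + 1) (by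
      rcases eq_or_ne p 0 with rfl | hp0
      · simp
      · rw [degree_eq_natDegree hp0] at hp
        exact Nat.lt_succ_of_lt (WithBot.coe_lt_coe.1 hp)), Finset.sum_range_succ,
      coeff_eq_zero_of_degree_lt hp, zero_smul, add_zero]
  have hχt : aeval t χ = t ^ r - θ c := by
    rw [map_sub, map_pow, aeval_X, map_sum]
    congr 1
    show _ = monomialMap (A := A) t r c
    rw [monomialMap_apply]
    exact Finset.sum_congr rfl fun i _ => by rw [aeval_monomial, Algebra.smul_def]
  -- a polynomial of degree `< r` killed locally modulo `I` and `χ` vanishes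
  have hzero : ∀ p : A[X], p.degree < r →
      (∀ q : PrimeSpectrum A, q.asIdeal ≠ maximalIdeal A → ∃ a ∉ q.asIdeal, a • aeval t p = 0) → p = 0 := by
    intro p hp h
    ext i
    rw [coeff_zero]
    by_cases hi : i < r
    · refine eq_zero_of_local hd _ fun q hq => ?_
      obtain ⟨a, ha, hap⟩ := h q hq
      rw [hcoeff p hp, ← map_smul] at hap
      refine ⟨a, ha, ?_⟩
      simpa using congrFun (hθinj _ hap) ⟨i, hi⟩
    · exact coeff_eq_zero_of_degree_lt (lt_of_lt_of_le hp (WithBot.coe_le_coe.2 (not_lt.1 hi)))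
  have hdiv : χ ∣ G := by
    refine (modByMonic_eq_zero_iff_dvd hχm).1 (hzero _ ?_ fun q hq => ?_)
    · rw [← hχdeg, ← degree_eq_natDegree hχm.ne_zero]; exact degree_modByMonic_lt G hχm
    · obtain ⟨a, ha, hae⟩ := hrel q hq
      refine ⟨a, ha, ?_⟩
      have hG0 : aeval t G = 0 := by rw [← hmkP, Ideal.Quotient.eq_zero_iff_mem]; exact hGI
      have h3 := congrArg (aeval t) (modByMonic_add_div G χ)
      rw [map_add, map_mul, hG0, hχt] at h3
      rw [eq_neg_of_add_eq_zero_left h3, smul_neg, ← smul_mul_assoc, hae, zero_mul, neg_zero]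
  obtain ⟨hpoly, hhG⟩ := hdiv
  have hhm : hpoly.Monic := hχm.of_mul_monic_left (hhG ▸ hG.monic)
  let k := A ⧸ maximalIdeal A
  letI : Field k := Ideal.Quotient.field _
  have hmap : (χ.map (Ideal.Quotient.mk (maximalIdeal A))) * hpoly.map (Ideal.Quotient.mk (maximalIdeal A)) =
      X ^ G.natDegree := by
    rw [← Polynomial.map_mul, ← hhG, hG.map_eq_X_pow]
  have hχdist : χ.IsDistinguishedAt (maximalIdeal A) := by
    obtain ⟨j, -, hj⟩ := (dvd_prime_pow (prime_X (R := k)) G.natDegree).1 ⟨_, hmap.symm⟩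
    have heq : χ.map (Ideal.Quotient.mk (maximalIdeal A)) = X ^ j :=
      eq_of_monic_of_associated (hχm.map _) (monic_X_pow j) hj
    have hjd : j = r := by
      have := congrArg natDegree heq
      rwa [natDegree_X_pow, hχm.natDegree_map, hχdeg, eq_comm] at this
    refine ⟨⟨fun {i} hi => ?_⟩, hχm⟩
    rw [hχdeg] at hi
    rw [← Ideal.Quotient.eq_zero_iff_mem, ← coeff_map, heq, coeff_X_pow, if_neg (by omega)]
  haveI : IsHausdorff (maximalIdeal A) A := IsAdicComplete.toIsHausdorff
  have hnzd : ∀ z : PowerSeries A, (χ : PowerSeries A) * z = 0 → z = 0 := by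
    intro z hz
    rcases (χ : PowerSeries A).map (Ideal.Quotient.mk (maximalIdeal A)) |>.order.toNat with _ | _ <;>
      exact ((hχdist.isWeierstrassDivisorAt').eq_zero_of_mul_eq (r := 0) (by simp [degree_zero]) (by simpa using hz)).1
  refine ⟨χ, hnzd, fun b hb => ?_, fun p hp => ?_⟩
  · obtain ⟨u, rem, hrem, rfl⟩ := exists_eq_mul_add hχdist b
    rw [hχdeg] at hrem
    suffices rem = 0 by rw [this, Polynomial.coe_zero, add_zero]; exact dvd_mul_right _ _
    refine hzero rem hrem fun q hq => ?_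
    obtain ⟨a, ha, hae⟩ := hrel q hq
    refine ⟨a, ha, ?_⟩
    have h3 : aeval t χ * Ideal.Quotient.mk I u + aeval t rem = 0 := by
      rw [← hmkP, ← hmkP, ← map_mul, ← map_add, Ideal.Quotient.eq_zero_iff_mem]; exact hb
    rw [eq_neg_of_add_eq_zero_right h3, smul_neg, ← smul_mul_assoc, hχt, hae, zero_mul, neg_zero]
  · let q : Ideal A := p.asIdeal.comap (PowerSeries.C (R := A))
    haveI : q.IsPrime := Ideal.IsPrime.comap _
    by_cases hq : q = maximalIdeal A
    · refine ⟨G, hGI, (hpoly : PowerSeries A), fun hmem => hp ?_, by rw [← Polynomial.coe_mul, ← hhG]⟩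
      have hle : (maximalIdeal A).map (PowerSeries.C (R := A)) ≤ p.asIdeal := Ideal.map_le_iff_le_comap.2 hq.ge
      -- `p` contains the extension of the maximal ideal and a series not in it
      have hpd : hpoly.IsDistinguishedAt (maximalIdeal A) := by
        obtain ⟨j, -, hj⟩ := (dvd_prime_pow (prime_X (R := k)) G.natDegree).1 ⟨_, ((mul_comm _ _).trans hmap).symm⟩
        have heq : hpoly.map (Ideal.Quotient.mk (maximalIdeal A)) = X ^ j :=
          eq_of_monic_of_associated (hhm.map _) (monic_X_pow j) hj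
        have hjd : j = hpoly.natDegree := by
          have := congrArg natDegree heq
          rwa [natDegree_X_pow, hhm.natDegree_map, eq_comm] at this
        refine ⟨⟨fun {i} hi => ?_⟩, hhm⟩
        rw [← Ideal.Quotient.eq_zero_iff_mem, ← coeff_map, heq, coeff_X_pow, if_neg (by omega)]
      have hX : (PowerSeries.X : PowerSeries A) ^ hpoly.natDegree ∈ p.asIdeal := by
        rw [show (PowerSeries.X : PowerSeries A) ^ hpoly.natDegree =
          (hpoly : PowerSeries A) - ((hpoly - X ^ hpoly.natDegree : A[X]) : PowerSeries A) by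
            rw [Polynomial.coe_sub, Polynomial.coe_pow, Polynomial.coe_X]; ring]
        refine sub_mem hmem (hle (mem_map_C_of_coeff_mem (σ := Unit) (IsNoetherian.noetherian _) _ fun d => ?_))
        have h4 : PowerSeries.coeff (d ()) ((hpoly - X ^ hpoly.natDegree : A[X]) : PowerSeries A) ∈ maximalIdeal A := by
          rw [Polynomial.coeff_coe, ← Ideal.Quotient.eq_zero_iff_mem, ← coeff_map, Polynomial.map_sub, hpd.map_eq_X_pow,
            Polynomial.map_pow, map_X, sub_self, coeff_zero]
        rwa [PowerSeries.coeff_def (s := d) rfl] at h4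
      refine le_antisymm (le_maximalIdeal p.2.ne_top) fun z hz => ?_
      rw [show z = (z - PowerSeries.C (PowerSeries.constantCoeff z)) + PowerSeries.C (PowerSeries.constantCoeff z) by ring]
      refine add_mem ?_ (hle (Ideal.mem_map_of_mem _ ?_))
      · obtain ⟨w, hw⟩ : (PowerSeries.X : PowerSeries A) ∣ z - PowerSeries.C (PowerSeries.constantCoeff z) :=
          PowerSeries.X_dvd_iff.2 (by simp)
        rw [hw]
        exact Ideal.mul_mem_right _ _ (p.2.mem_of_pow_mem _ hX)
      · rw [mem_maximalIdeal] at hz ⊢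
        exact fun hu => hz (PowerSeries.isUnit_iff_constantCoeff.2 hu)
    · obtain ⟨a, ha, hae⟩ := hrel ⟨q, inferInstance⟩ hq
      refine ⟨(χ : PowerSeries A) * PowerSeries.C a, ?_, PowerSeries.C a, ha, rfl⟩
      rw [← Ideal.Quotient.eq_zero_iff_mem, map_mul, hmkP, hχt]
      rw [PowerSeries.C_eq_algebraMap, Ideal.Quotient.mk_algebraMap, mul_comm]
      exact (Algebra.smul_def a _).symm.trans hae

end Groth.Agent.RamSamLib

namespace Groth.Agent.RamSamLib

open AlgebraicGeometry TopologicalSpace Groth.Agent.ParaFLib Groth.Agent.ParaFLiftLib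

/-- **Power series over a complete local ring of depth two are parafactorial.** -/
theorem picTrivial_powerSeries (A : Type u) [CommRing A] [IsLocalRing A] [IsNoetherianRing A]
    [IsAdicComplete (maximalIdeal A) A] (hd : (2 : ℕ∞) ≤ LocCoh.depth A A) :
    ParaF.PicTrivial (FEt.puncturedSpec (PowerSeries A) : Scheme.{u}) := by
  let R : CommRingCat.{u} := CommRingCat.of (PowerSeries A)
  haveI : IsNoetherianRing R := inferInstanceAs (IsNoetherianRing (PowerSeries A))
  refine picTrivial_of_functional (R := R) (FEt.puncturedSpec (PowerSeries A)) fun Q _ hdata => ?_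
  have hmem : ∀ p : PrimeSpectrum (PowerSeries A), p.asIdeal ≠ maximalIdeal (PowerSeries A) →
      GenData (R := R) Q p := fun p hp => hdata p fun e => hp (congrArg PrimeSpectrum.asIdeal e)
  -- the point over the closed point
  let P : Ideal (PowerSeries A) := (maximalIdeal A).map (PowerSeries.C (R := A))
  obtain ⟨hP, hPmon⟩ := monic_notMem_map_C (maximalIdeal A) (G := (X : A[X])) monic_X
  have hPne : P ≠ maximalIdeal (PowerSeries A) := fun e => hPmon (by
    show (_ : PowerSeries A) ∈ P
    rw [e, mem_maximalIdeal, Polynomial.coe_X]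
    exact fun hu => by simpa using hu.map (PowerSeries.constantCoeff (R := A)))
  obtain ⟨f₀, g₀, hg₀, hgen₀, htor₀⟩ := hmem ⟨P, hP⟩ hPne
  have hg₀' : (g₀ : PowerSeries A).map (residue A) ≠ 0 := fun h0 => hg₀ (by
    refine mem_map_C_of_coeff_mem (σ := Unit) (IsNoetherian.noetherian _) _ fun d => ?_
    have h1 : PowerSeries.coeff (d ()) ((g₀ : PowerSeries A).map (residue A)) = 0 := by rw [h0, map_zero]
    rw [PowerSeries.coeff_map, residue_eq_zero_iff, PowerSeries.coeff_def (s := d) rfl] at h1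
    exact h1)
  obtain ⟨G, u, H⟩ := PowerSeries.exists_isWeierstrassFactorization hg₀'
  obtain ⟨v, hv⟩ := H.isUnit
  have hGd := H.isDistinguishedAt
  haveI : IsHausdorff (maximalIdeal A) A := IsAdicComplete.toIsHausdorff
  have hGnzd : ∀ z : PowerSeries A, (G : PowerSeries A) * z = 0 → z = 0 := fun z hz =>
    ((hGd.isWeierstrassDivisorAt').eq_zero_of_mul_eq (r := 0) (by simp [degree_zero]) (by simpa using hz)).1
  let Gr : R := (G : PowerSeries A)
  have hgenG : ∀ z : Q, ∃ a : R, Gr • z = a • f₀ := fun z => by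
    obtain ⟨a, ha⟩ := hgen₀ z
    refine ⟨(↑v⁻¹ : PowerSeries A) * a, ?_⟩
    rw [mul_smul, ← ha, ← mul_smul]
    congr 1
    show (G : PowerSeries A) = ↑v⁻¹ * (g₀ : PowerSeries A)
    rw [H.eq_mul, ← hv, mul_left_comm, Units.inv_mul, mul_one]
  have htorG : ∀ a : R, a • f₀ = 0 → a = 0 := fun a ha => by
    have h1 : (g₀ : PowerSeries A) * a = 0 := htor₀ a ha
    rw [H.eq_mul, mul_assoc] at h1
    exact (Units.mul_right_eq_zero v).1 (hv ▸ hGnzd _ h1)
  choose ψ hψ using hgenG
  let ψl : Q →ₗ[R] R :=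
    { toFun := ψ
      map_add' := fun z w => sub_eq_zero.1 (htorG _ (by rw [sub_smul, add_smul, ← hψ, ← hψ, ← hψ, smul_add, sub_self]))
      map_smul' := fun r z => sub_eq_zero.1 (htorG _ (by
        rw [RingHom.id_apply, smul_eq_mul, sub_smul, mul_smul, ← hψ, ← hψ, smul_comm, sub_self])) }
  let I : Ideal (PowerSeries A) := LinearMap.range ψl
  have hGI : (G : PowerSeries A) ∈ I := ⟨f₀, sub_eq_zero.1 (htorG _ (by
    show (ψ f₀ - Gr) • f₀ = 0
    rw [sub_smul, ← hψ, sub_self]))⟩
  have hI : ∀ p : PrimeSpectrum (PowerSeries A), p.asIdeal ≠ maximalIdeal (PowerSeries A) →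
      ∃ i ∈ I, ∃ h ∉ p.asIdeal, ∀ z ∈ I, h * z ∈ Ideal.span {i} := fun p hp => by
    obtain ⟨f, h, hh, hgen, -⟩ := hmem p hp
    refine ⟨ψl f, ⟨f, rfl⟩, h, hh, ?_⟩
    rintro _ ⟨z, rfl⟩
    obtain ⟨a, ha⟩ := hgen z
    exact Ideal.mem_span_singleton.2 ⟨a, by
      have := congrArg ψl ha
      rw [map_smul, map_smul] at this
      exact this.trans (mul_comm _ _)⟩
  obtain ⟨χ, hχ, hdvd, hwit⟩ := exists_divisor hGd I hGI hI hd
  choose w hw using fun z : Q => hdvd (ψl z) ⟨z, rfl⟩
  let φ : Q →ₗ[R] R :=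
    { toFun := w
      map_add' := fun z z' => sub_eq_zero.1 (hχ _ (by
        have := hw (z + z'); rw [map_add, hw z, hw z'] at this
        linear_combination -this))
      map_smul' := fun r z => sub_eq_zero.1 (hχ _ (by
        have := hw (r • z); rw [map_smul, hw z, smul_eq_mul] at this
        rw [RingHom.id_apply, smul_eq_mul]
        linear_combination -this)) }
  refine ⟨φ, fun p hp => ?_⟩
  obtain ⟨b, ⟨z, rfl⟩, w', hw', hb⟩ := hwit p fun e => hp (PrimeSpectrum.ext e)
  refine ⟨z, ?_⟩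
  have : w z = w' := sub_eq_zero.1 (hχ _ (by rw [mul_sub, ← hw z, hb, sub_self]))
  show w z ∉ _
  rwa [this]

theorem isParafactorialLocalRing_powerSeries (A : Type u) [CommRing A] [IsLocalRing A] [IsNoetherianRing A]
    [IsAdicComplete (maximalIdeal A) A] (hd : (2 : ℕ∞) ≤ LocCoh.depth A A) :
    ParaF.IsParafactorialLocalRing (PowerSeries A) := by
  refine (isParafactorialLocalRing_iff (PowerSeries A)).2
    ⟨bijective_res_punctured_of_depth (A := PowerSeries A) ?_, picTrivial_powerSeries A hd⟩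
  obtain ⟨x, hx, y, hy, h1, h2⟩ := exists_regular_pair hd
  have hne : maximalIdeal (PowerSeries A) • (⊤ : Submodule (PowerSeries A) (PowerSeries A)) ≠ ⊤ := by
    rw [smul_eq_mul, Ideal.mul_top]; exact Ideal.IsPrime.ne_top'
  refine (Groth.Agent.Depth.le_idealDepth_iff hne 2).2 ⟨[PowerSeries.X, PowerSeries.C x], rfl, ?_, ?_⟩
  · intro r hr
    rw [mem_maximalIdeal]
    intro hu
    have := hu.map (PowerSeries.constantCoeff (R := A))
    rcases List.mem_pair.1 hr with rfl | rfl
    · simp at this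
    · exact (mem_maximalIdeal x).1 hx (by simpa using this)
  · rw [isWeaklyRegular_cons_iff, isWeaklyRegular_singleton_iff]
    refine ⟨?_, ?_⟩
    · intro a b hab
      exact sub_eq_zero.1 (PowerSeries.X_mul_cancel (φ := a - b) (ψ := 0) (by
        rw [mul_sub, mul_zero]; exact sub_eq_zero.2 hab))
    · rw [isSMulRegular_iff_right_eq_zero_of_smul]
      intro m hm
      obtain ⟨z, rfl⟩ := Submodule.Quotient.mk_surjective _ m
      rw [← Submodule.Quotient.mk_smul, Submodule.Quotient.mk_eq_zero, ← Submodule.ideal_span_singleton_smul,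
        smul_eq_mul, Ideal.mul_top, Ideal.mem_span_singleton, PowerSeries.X_dvd_iff] at hm
      rw [Submodule.Quotient.mk_eq_zero, ← Submodule.ideal_span_singleton_smul, smul_eq_mul, Ideal.mul_top,
        Ideal.mem_span_singleton, PowerSeries.X_dvd_iff]
      exact h1 _ (by simpa using hm)

end Groth.Agent.RamSamLib
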