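import Groth.Agent.RamSamLib.Main
import Groth.Agent.LocFlat.Basic
import Groth.Agent.S0335

/-!
# Relative effective divisors on the punctured base are cut out by a distinguished polynomial
-/

set_option autoImplicit false
set_option linter.style.haveILetI false
set_option linter.unusedSectionVars false
set_option maxHeartbeats 1000000

universe u

open IsLocalRing Polynomial TensorProduct

namespace Groth.Agent.RamSamLib

variable {A : Type u} [CommRing A]

theorem flat_powerSeries' (A : Type u) [CommRing A] [IsNoetherianRing A] : Module.Flat A (PowerSeries A) := by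
  let P := MvPolynomial Unit A
  haveI : Module.Flat A (AdicCompletion (MvPolynomial.idealOfVars Unit A) P) := Module.Flat.trans A P _
  exact Module.Flat.of_linearEquiv
    ((MvPowerSeries.toAdicCompletionAlgEquiv Unit A).restrictScalars A).toLinearEquiv

variable [IsLocalRing A] [IsNoetherianRing A]

/-- The base change of a fibre prime to a power series ring is prime, and a monic polynomial avoids it. -/
theorem monic_notMem_map_C (q : Ideal A) [q.IsPrime] {G : A[X]} (hG : G.Monic) :
    (q.map (PowerSeries.C (R := A))).IsPrime ∧ (G : PowerSeries A) ∉ q.map (PowerSeries.C (R := A)) := by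
  have hker : q.map (PowerSeries.C (R := A)) = RingHom.ker (PowerSeries.map (Ideal.Quotient.mk q)) := by
    refine le_antisymm (Ideal.map_le_iff_le_comap.2 fun a ha => ?_) fun b hb => ?_
    · rw [Ideal.mem_comap, RingHom.mem_ker, PowerSeries.map_C, Ideal.Quotient.eq_zero_iff_mem.2 ha, map_zero]
    · refine mem_map_C_of_coeff_mem (σ := Unit) (IsNoetherian.noetherian _) b fun d => ?_
      have h1 : PowerSeries.coeff (d ()) (PowerSeries.map (Ideal.Quotient.mk q) b) = 0 := by
        rw [RingHom.mem_ker.1 hb, map_zero]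
      rw [PowerSeries.coeff_map, Ideal.Quotient.eq_zero_iff_mem, PowerSeries.coeff_def (s := d) rfl] at h1
      exact h1
  rw [hker]
  refine ⟨RingHom.ker_isPrime _, fun h => ?_⟩
  rw [RingHom.mem_ker, ← Polynomial.polynomial_map_coe, Polynomial.coe_eq_zero_iff] at h
  exact (hG.map _).ne_zero h

section Main

variable {G : A[X]} (hG : G.IsDistinguishedAt (maximalIdeal A)) (I : Ideal (PowerSeries A))
  (hGI : (G : PowerSeries A) ∈ I)
  (hI : ∀ p : PrimeSpectrum (PowerSeries A), p.asIdeal ≠ maximalIdeal (PowerSeries A) →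
    ∃ i ∈ I, ∃ h ∉ p.asIdeal, ∀ z ∈ I, h * z ∈ Ideal.span {i})

include hG hGI hI

/-- The local rings of the quotient over the punctured base are flat. -/
theorem flat_localization_quot (p : Ideal (PowerSeries A)) [p.IsPrime] (hIp : I ≤ p)
    (hne : p.comap (PowerSeries.C (R := A)) ≠ maximalIdeal A) :
    Module.Flat A (Localization.AtPrime p ⧸ I.map (algebraMap (PowerSeries A) (Localization.AtPrime p))) := by
  let q : Ideal A := p.comap (PowerSeries.C (R := A))
  haveI : q.IsPrime := Ideal.IsPrime.comap _
  let Cr := Localization.AtPrime q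
  let L := Localization.AtPrime p
  letI alg : Algebra Cr L := (Localization.localRingHom q p (PowerSeries.C (R := A)) rfl).toAlgebra
  haveI : IsLocalHom (algebraMap Cr L) :=
    inferInstanceAs (IsLocalHom (Localization.localRingHom q p (PowerSeries.C (R := A)) rfl))
  have hcomm : ∀ a : A, algebraMap Cr L (algebraMap A Cr a) = algebraMap (PowerSeries A) L (PowerSeries.C a) :=
    fun a => Localization.localRingHom_to_map q p _ rfl a
  haveI : IsScalarTower A Cr L := IsScalarTower.of_algebraMap_eq fun a => by
    rw [hcomm, PowerSeries.C_eq_algebraMap, ← IsScalarTower.algebraMap_apply]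
  haveI := flat_powerSeries' A
  haveI : Module.Flat A L := Module.Flat.trans A (PowerSeries A) L
  haveI : Module.Flat Cr L := (Module.flat_iff_of_isLocalization Cr q.primeCompl L).2 inferInstance
  haveI : IsNoetherianRing Cr := IsLocalization.isNoetherianRing q.primeCompl _ inferInstance
  haveI : IsNoetherianRing L := IsLocalization.isNoetherianRing p.primeCompl _ inferInstance
  obtain ⟨i, hiI, h, hh, hgen⟩ := hI ⟨p, ‹_›⟩ fun e => hne (by
    haveI : IsLocalHom (PowerSeries.C (R := A)) := ⟨fun a ha => by
      simpa using ha.map (PowerSeries.constantCoeff (R := A))⟩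
    rw [show p = maximalIdeal (PowerSeries A) from e]; exact maximalIdeal_comap _)
  let a : L := algebraMap _ L i
  have hmap : I.map (algebraMap (PowerSeries A) L) = Ideal.span {a} := by
    refine le_antisymm (Ideal.map_le_iff_le_comap.2 fun z hz => ?_)
      ((Ideal.span_singleton_le_iff_mem _).2 (Ideal.mem_map_of_mem _ hiI))
    obtain ⟨c, hc⟩ := Ideal.mem_span_singleton.1 (hgen z hz)
    rw [Ideal.mem_comap, ← Ideal.unit_mul_mem_iff_mem _ (IsLocalization.map_units L (⟨h, hh⟩ : p.primeCompl)),
      ← map_mul, hc, map_mul]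
    exact Ideal.mul_mem_right _ _ (Ideal.mem_span_singleton_self _)
  let P₀ : Ideal L := (maximalIdeal Cr).map (algebraMap Cr L)
  have hqp : q.map (PowerSeries.C (R := A)) ≤ p := Ideal.map_le_iff_le_comap.2 le_rfl
  obtain ⟨hprime, hGq⟩ := monic_notMem_map_C q hG.monic
  have hP₀ : P₀ = (q.map (PowerSeries.C (R := A))).map (algebraMap (PowerSeries A) L) := by
    show (maximalIdeal Cr).map _ = _
    rw [← IsLocalization.AtPrime.map_eq_maximalIdeal q Cr, Ideal.map_map, Ideal.map_map]
    congr 1
    exact RingHom.ext hcomm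
  have hdisj : Disjoint (p.primeCompl : Set (PowerSeries A)) (q.map (PowerSeries.C (R := A))) :=
    Set.disjoint_left.2 fun x hx hxq => hx (hqp hxq)
  have hP₀p : P₀.IsPrime := hP₀ ▸ IsLocalization.isPrime_of_isPrime_disjoint p.primeCompl L _ hprime hdisj
  have ha : a ∉ P₀ := fun ha => hGq (by
    have h1 : algebraMap _ L (G : PowerSeries A) ∈ P₀ :=
      ((Ideal.span_singleton_le_iff_mem _).2 ha) (hmap ▸ Ideal.mem_map_of_mem _ hGI)
    rwa [hP₀, ← Ideal.mem_comap, show ((q.map (PowerSeries.C (R := A))).map (algebraMap (PowerSeries A) L)).comap (algebraMap (PowerSeries A) L) = _ from IsLocalization.under_map_of_isPrime_disjoint p.primeCompl L hprime hdisj] at h1)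
  let μ : L →ₗ[Cr] L := LinearMap.mulLeft Cr a
  have hsm : ∀ z : L, z ∈ (maximalIdeal Cr • ⊤ : Submodule Cr L) ↔ z ∈ P₀ := fun z => by
    rw [Ideal.smul_top_eq_map, Submodule.restrictScalars_mem]
  have hμ : Function.Injective (μ.lTensor (ResidueField Cr)) := by
    show Function.Injective (μ.lTensor (Cr ⧸ maximalIdeal Cr))
    rw [injective_iff_map_eq_zero]
    intro z hz
    obtain ⟨y, rfl⟩ : ∃ y : L, (Ideal.Quotient.mk (maximalIdeal Cr) 1) ⊗ₜ[Cr] y = z :=
      TensorProduct.mk_surjective Cr L (Cr ⧸ maximalIdeal Cr) Ideal.Quotient.mk_surjective z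
    rw [LinearMap.lTensor_tmul] at hz
    have h1 := congrArg (quotTensorEquivQuotSMul L (maximalIdeal Cr)) hz
    rw [LinearEquiv.map_zero, quotTensorEquivQuotSMul_mk_tmul, one_smul, Submodule.Quotient.mk_eq_zero, hsm] at h1
    apply (quotTensorEquivQuotSMul L (maximalIdeal Cr)).injective
    rw [LinearEquiv.map_zero, quotTensorEquivQuotSMul_mk_tmul, one_smul, Submodule.Quotient.mk_eq_zero, hsm]
    exact (hP₀p.mem_or_mem h1).resolve_left ha
  haveI hflat : Module.Flat Cr (L ⧸ LinearMap.range μ) := (LocFlat.injective_and_flat_of_residue (S := L) μ hμ).2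
  have hrange : LinearMap.range μ = (I.map (algebraMap (PowerSeries A) L)).restrictScalars Cr := by
    ext z
    rw [Submodule.restrictScalars_mem, hmap, Ideal.mem_span_singleton]
    exact ⟨fun ⟨c, hc⟩ => ⟨c, hc.symm⟩, fun ⟨c, hc⟩ => ⟨c, hc.symm⟩⟩
  haveI : Module.Flat Cr (L ⧸ I.map (algebraMap (PowerSeries A) L)) := Module.Flat.of_linearEquiv
    ((Submodule.Quotient.restrictScalarsEquiv Cr (I.map (algebraMap (PowerSeries A) L))).symm ≪≫ₗ
      Submodule.quotEquivOfEq _ _ hrange.symm)
  exact Module.Flat.trans A Cr _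

/-- The quotient is locally free on the punctured base. -/
theorem mem_freeLocus (q : PrimeSpectrum A) (hq : q.asIdeal ≠ maximalIdeal A)
    [Module.Finite A (PowerSeries A ⧸ I)] :
    q ∈ Module.freeLocus A (PowerSeries A ⧸ I) := by
  let S := PowerSeries A ⧸ I
  let M := Algebra.algebraMapSubmonoid S q.asIdeal.primeCompl
  let R := Localization M
  haveI hloc : IsLocalizedModule q.asIdeal.primeCompl (IsScalarTower.toAlgHom A S R).toLinearMap :=
    (isLocalizedModule_iff_isLocalization (S := q.asIdeal.primeCompl) (A := S) (Aₛ := R)).2 inferInstance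
  have hflat : Module.Flat A R := by
    refine Module.flat_of_isLocalized_maximal (R := A) R R (fun P _ => Localization.AtPrime P)
      (fun P _ => Algebra.linearMap R (Localization.AtPrime P)) fun P _ => ?_
    let P₀ : Ideal S := P.comap (algebraMap S R)
    haveI : P₀.IsPrime := Ideal.IsPrime.comap _
    haveI : IsLocalization.AtPrime (Localization.AtPrime P) P₀ :=
      IsLocalization.isLocalization_isLocalization_atPrime_isLocalization M (Localization.AtPrime P) P
    let p : Ideal (PowerSeries A) := P₀.comap (Ideal.Quotient.mk I)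
    haveI : p.IsPrime := Ideal.IsPrime.comap _
    have hIp : I ≤ p := fun z hz => by
      show Ideal.Quotient.mk I z ∈ P₀
      rw [Ideal.Quotient.eq_zero_iff_mem.2 hz]; exact zero_mem _
    have hpq : p.comap (PowerSeries.C (R := A)) ≤ q.asIdeal := fun a ha => by
      by_contra haq
      refine (Ideal.IsPrime.ne_top (inferInstance : P.IsPrime)) (Ideal.eq_top_of_isUnit_mem _
        (show algebraMap S R (algebraMap A S a) ∈ P from ?_)
        (IsLocalization.map_units R (⟨algebraMap A S a, a, haq, rfl⟩ : M)))
      have : Ideal.Quotient.mk I (PowerSeries.C a) ∈ P₀ := ha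
      rwa [PowerSeries.C_eq_algebraMap, Ideal.Quotient.mk_algebraMap] at this
    have hne : p.comap (PowerSeries.C (R := A)) ≠ maximalIdeal A := fun e =>
      hq (le_antisymm (le_maximalIdeal q.2.ne_top) (e ▸ hpq))
    haveI := flat_localization_quot hG I hGI hI p hIp hne
    let T := Localization.AtPrime p ⧸ I.map (algebraMap (PowerSeries A) (Localization.AtPrime p))
    have hsub : Algebra.algebraMapSubmonoid S p.primeCompl = P₀.primeCompl := by
      ext s
      refine ⟨?_, fun hs => ?_⟩
      · rintro ⟨b, hb, rfl⟩; exact hb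
      · obtain ⟨b, rfl⟩ := Ideal.Quotient.mk_surjective s
        exact ⟨b, hs, rfl⟩
    haveI : IsLocalization (P₀.primeCompl) T := hsub ▸ (inferInstance :
      IsLocalization (Algebra.algebraMapSubmonoid S p.primeCompl) T)
    haveI : IsScalarTower A S T := IsScalarTower.of_algebraMap_eq fun a => by
      show algebraMap A T a = algebraMap S T (Ideal.Quotient.mk I (algebraMap A (PowerSeries A) a))
      rw [IsScalarTower.algebraMap_apply A (PowerSeries A) T]
      rfl
    exact Module.Flat.of_linearEquiv
      ((IsLocalization.algEquiv P₀.primeCompl (Localization.AtPrime P) T).restrictScalars A).toLinearEquiv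
  let Aq := Localization.AtPrime q.asIdeal
  let e := IsLocalizedModule.iso q.asIdeal.primeCompl (IsScalarTower.toAlgHom A S R).toLinearMap
  haveI : Module.Flat A (LocalizedModule q.asIdeal.primeCompl S) := Module.Flat.of_linearEquiv e
  haveI : Module.Flat Aq (LocalizedModule q.asIdeal.primeCompl S) :=
    (Module.flat_iff_of_isLocalization Aq q.asIdeal.primeCompl _).2 inferInstance
  haveI : Module.Finite Aq (LocalizedModule q.asIdeal.primeCompl S) :=
    Module.Finite.of_isLocalizedModule q.asIdeal.primeCompl (LocalizedModule.mkLinearMap q.asIdeal.primeCompl S)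
  exact Module.free_of_flat_of_isLocalRing

end Main

section Monomials

variable {S : Type u} [CommRing S] [Algebra A S] (t : S)

/-- The first powers of `t`. -/
noncomputable def monomialMap (r : ℕ) : (Fin r → A) →ₗ[A] S :=
  Fintype.linearCombination A fun i : Fin r => t ^ (i : ℕ)

theorem monomialMap_apply (r : ℕ) (c : Fin r → A) : monomialMap t r c = ∑ i : Fin r, c i • t ^ (i : ℕ) :=
  Fintype.linearCombination_apply _ _ c

/-- On a point of the free locus of rank `r`, the first `r` powers of a generator form a basis. -/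
theorem monomials_basis [Module.Finite A S] (ht : Algebra.adjoin A {t} = ⊤) (r : ℕ) (q : PrimeSpectrum A)
    (hfree : q ∈ Module.freeLocus A S) (hr : Module.rankAtStalk S q = r) :
    (∀ s : S, ∃ a ∉ q.asIdeal, a • s ∈ LinearMap.range (monomialMap (A := A) t r)) ∧
      ∀ c, monomialMap (A := A) t r c = 0 → ∀ i, ∃ a ∉ q.asIdeal, a * c i = 0 := by
  classical
  let Aq := Localization.AtPrime q.asIdeal
  let N := LocalizedModule q.asIdeal.primeCompl S
  haveI : Module.Free Aq N := hfree
  haveI : Module.Finite Aq N :=
    Module.Finite.of_isLocalizedModule q.asIdeal.primeCompl (LocalizedModule.mkLinearMap q.asIdeal.primeCompl S)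
  let ι : S →ₗ[A] N := LocalizedModule.mkLinearMap q.asIdeal.primeCompl S
  let φ : N →ₗ[Aq] N := IsLocalizedModule.mapExtendScalars q.asIdeal.primeCompl ι ι Aq (LinearMap.mulLeft A t)
  have hφ : ∀ s, φ (ι s) = ι (t * s) := fun s => IsLocalizedModule.map_apply q.asIdeal.primeCompl ι ι _ s
  have hφpow : ∀ (n : ℕ) s, (φ ^ n) (ι s) = ι (t ^ n * s) := by
    intro n
    induction n with
    | zero => intro s; simp
    | succ n ih => intro s; rw [pow_succ', Module.End.mul_apply, ih, hφ, pow_succ', mul_assoc]
  let θ : (Fin r → Aq) →ₗ[Aq] N := Fintype.linearCombination Aq fun i : Fin r => ι (t ^ (i : ℕ))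
  have hchar : φ.charpoly.natDegree = r := by rw [LinearMap.charpoly_natDegree]; exact hr
  have htop : ∀ n : ℕ, ι (t ^ n) ∈ LinearMap.range θ := by
    have hlow : ∀ n < r, ι (t ^ n) ∈ LinearMap.range θ := fun n hn =>
      ⟨Pi.single ⟨n, hn⟩ 1, by simp [θ, Fintype.linearCombination_apply_single]⟩
    intro n
    induction n using Nat.strong_induction_on with
    | _ n ih =>
      rcases lt_or_ge n r with hn | hn
      · exact hlow n hn
      have h0 := congrArg (fun f : Module.End Aq N => f (ι (t ^ (n - r)))) φ.aeval_self_charpoly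
      simp only [aeval_eq_sum_range, hchar, Finset.sum_range_succ, LinearMap.add_apply, LinearMap.sum_apply,
        LinearMap.smul_apply, LinearMap.zero_apply, hφpow, ← pow_add] at h0
      rw [show φ.charpoly.coeff r = 1 from hchar ▸ φ.charpoly_monic, one_smul, Nat.add_sub_cancel' hn] at h0
      rw [eq_neg_of_add_eq_zero_right h0]
      exact neg_mem (Submodule.sum_mem _ fun i hi => Submodule.smul_mem _ _ (ih _ (by
        have := Finset.mem_range.1 hi; omega)))
  have hall : ∀ s : S, ι s ∈ LinearMap.range θ := by
    intro s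
    obtain ⟨p, rfl⟩ : ∃ p : A[X], aeval t p = s := by
      have : s ∈ Algebra.adjoin A {t} := ht ▸ Algebra.mem_top
      rwa [Algebra.adjoin_singleton_eq_range_aeval] at this
    rw [aeval_eq_sum_range, map_sum]
    refine Submodule.sum_mem _ fun i _ => ?_
    rw [map_smul, ← IsScalarTower.algebraMap_smul Aq (p.coeff i) (ι (t ^ i))]
    exact Submodule.smul_mem _ _ (htop i)
  have hsurj : Function.Surjective θ := fun z => by
    obtain ⟨⟨s, a⟩, ha⟩ := IsLocalizedModule.surj q.asIdeal.primeCompl ι z
    obtain ⟨c, hc⟩ := hall s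
    obtain ⟨u, hu⟩ := IsLocalization.map_units Aq a
    refine ⟨(↑u⁻¹ : Aq) • c, ?_⟩
    rw [map_smul, hc, ← ha, Submonoid.smul_def, ← IsScalarTower.algebraMap_smul Aq (a : A) z, ← hu, ← mul_smul,
      Units.inv_mul, one_smul]
  have hinj : Function.Injective θ := by
    let b := Module.finBasisOfFinrankEq Aq N (show Module.finrank Aq N = r from hr)
    have h1 : Function.Injective (b.equivFun.toLinearMap ∘ₗ θ) :=
      OrzechProperty.injective_of_surjective_endomorphism _ (b.equivFun.surjective.comp hsurj)
    exact fun x y hxy => h1 (show b.equivFun (θ x) = b.equivFun (θ y) by rw [hxy])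
  have hθ : ∀ c : Fin r → A, ι (monomialMap (A := A) t r c) = θ (fun i => algebraMap A Aq (c i)) := fun c => by
    rw [monomialMap_apply, map_sum]
    simp only [θ, Fintype.linearCombination_apply, map_smul, IsScalarTower.algebraMap_smul]
  refine ⟨fun s => ?_, fun c hc i => ?_⟩
  · obtain ⟨c, hc⟩ := hall s
    obtain ⟨b, hb⟩ := IsLocalization.exist_integer_multiples_of_finite q.asIdeal.primeCompl c
    choose d hd using hb
    have h1 : ι (monomialMap (A := A) t r d) = ι ((b : A) • s) := by
      rw [hθ, map_smul, ← hc, ← IsScalarTower.algebraMap_smul Aq (b : A) (θ c), ← map_smul]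
      refine congrArg θ (funext fun j => ?_)
      rw [hd, Pi.smul_apply, smul_eq_mul, Algebra.smul_def]
    obtain ⟨e, he⟩ := IsLocalizedModule.exists_of_eq (S := q.asIdeal.primeCompl) h1
    refine ⟨(e : A) * b, fun h => (q.2.mem_or_mem h).elim e.2 b.2, (e : A) • d, ?_⟩
    rw [map_smul, mul_smul]
    exact he
  · have h1 : θ (fun j => algebraMap A Aq (c j)) = θ 0 := by rw [← hθ, hc, map_zero, map_zero]
    have h2 : algebraMap A Aq (c i) = algebraMap A Aq 0 := by rw [map_zero]; exact congrFun (hinj h1) i
    obtain ⟨e, he⟩ := IsLocalization.exists_of_eq (M := q.asIdeal.primeCompl) h2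
    exact ⟨e, e.2, by simpa using he⟩

end Monomials

end Groth.Agent.RamSamLib
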