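import Groth.Agent.RamSamLib.Prep
import Groth.Agent.ArtFunLib.PS
import Groth.Agent.NagataLib.PowerSeries

/-!
# The Ramanujam–Samuel theorem for power series rings
-/

set_option autoImplicit false
set_option linter.style.haveILetI false

universe u

open IsLocalRing

namespace Groth.Agent.RamSamLib

variable (A : Type u) [CommRing A]

/-- Power series rings over noetherian normal domains are noetherian normal domains. -/
theorem noetherian_normal [IsDomain A] [IsNoetherianRing A] [IsIntegrallyClosed A] (r : ℕ) :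
    IsNoetherianRing (MvPowerSeries (Fin r) A) ∧ IsIntegrallyClosed (MvPowerSeries (Fin r) A) := by
  induction r with
  | zero =>
    let e : MvPowerSeries (Fin 0) A ≃+* A := (MvPowerSeries.isEmptyEquiv (Fin 0) A).toRingEquiv
    exact ⟨isNoetherianRing_of_ringEquiv A e.symm, IsIntegrallyClosed.of_equiv e.symm⟩
  | succ n ih =>
    haveI : IsDomain (MvPowerSeries (Fin n) A) := NoZeroDivisors.to_isDomain _
    obtain ⟨hn, hic⟩ := ih
    haveI := hn
    haveI := hic
    haveI := Groth.Agent.NagataLib.isIntegrallyClosed_powerSeries (MvPowerSeries (Fin n) A)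
    let e := (MvPowerSeries.finSuccEquiv A n).toRingEquiv.symm
    exact ⟨isNoetherianRing_of_ringEquiv _ e, IsIntegrallyClosed.of_equiv e⟩

/-- A weight vector separating one point of a set of exponents from the others. -/
theorem exists_weights : ∀ (n : ℕ) (S : Set (Fin n → ℕ)), S.Nonempty → ∃ (w : Fin n → ℕ) (α : Fin n → ℕ),
    α ∈ S ∧ (∀ i, 0 < w i) ∧ (∀ i : Fin n, (i : ℕ) = 0 → w i = 1) ∧
      ∀ d ∈ S, ∑ i, w i * d i = ∑ i, w i * α i → d = α := by
  intro n
  induction n with
  | zero =>
    rintro S ⟨α, hα⟩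
    exact ⟨Fin.elim0, α, hα, fun i => i.elim0, fun i => i.elim0, fun d _ _ => Subsingleton.elim _ _⟩
  | succ n ih =>
    intro S hS
    classical
    have hne : ∃ m, ∃ d ∈ S, d (Fin.last n) = m := ⟨_, hS.some, hS.some_mem, rfl⟩
    let m := Nat.find hne
    obtain ⟨d₀, hd₀, hm⟩ := Nat.find_spec hne
    obtain ⟨w, α, ⟨a, ha, ham, rfl⟩, hw, hw1, huniq⟩ := ih {d' | ∃ d ∈ S, d (Fin.last n) = m ∧ Fin.init d = d'}
      ⟨_, d₀, hd₀, hm, rfl⟩
    refine ⟨Fin.snoc w (1 + ∑ i, w i * Fin.init a i), a, ha, ?_, ?_, ?_⟩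
    · intro i
      cases i using Fin.lastCases with
      | last => simp
      | cast i => simpa using hw i
    · intro i hi
      cases i using Fin.lastCases with
      | last =>
        have hn : n = 0 := by simpa using hi
        subst hn
        simp [Fin.snoc]
      | cast i => simpa using hw1 i (by simpa using hi)
    · intro d hd h
      simp only [Fin.sum_univ_castSucc, Fin.snoc_castSucc, Fin.snoc_last, ham] at h
      have hmd : m ≤ d (Fin.last n) := Nat.find_le ⟨d, hd, rfl⟩
      have hlast : d (Fin.last n) = m := by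
        rcases Nat.eq_or_lt_of_le hmd with h' | h'
        · exact h'.symm
        · exfalso
          have h2 : (1 + ∑ i, w i * Fin.init a i) * (m + 1) ≤ (1 + ∑ i, w i * Fin.init a i) * d (Fin.last n) :=
            Nat.mul_le_mul_left _ h'
          simp only [Fin.init] at h2 h
          rw [Nat.mul_add, mul_one] at h2
          omega
      have hsum : ∑ i, w i * Fin.init d i = ∑ i, w i * Fin.init a i := by
        simp only [Fin.init] at h ⊢
        rw [hlast] at h
        omega
      have hinit := huniq _ ⟨d, hd, hlast, rfl⟩ hsum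
      rw [← Fin.snoc_init_self d, ← Fin.snoc_init_self a, hinit, hlast, ham]

variable {A}

/-- A series all of whose coefficients lie in a finitely generated ideal lies in its extension. -/
theorem mem_map_C_of_coeff_mem {σ : Type} {I : Ideal A} (hI : I.FG) (f : MvPowerSeries σ A)
    (h : ∀ d, MvPowerSeries.coeff d f ∈ I) : f ∈ I.map (MvPowerSeries.C : A →+* MvPowerSeries σ A) := by
  classical
  obtain ⟨s, hs⟩ := hI
  subst hs
  have h' : ∀ d, ∃ c : (↥s) → A, ∑ j, c j * (j : A) = MvPowerSeries.coeff d f := fun d => by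
    have := h d
    rw [show (s : Set A) = Set.range (fun j : (↥s) => (j : A)) by simp] at this
    exact Ideal.mem_span_range_iff_exists_fun.mp this
  choose c hc using h'
  let g : (↥s) → MvPowerSeries σ A := fun j d => c d j
  have hf : f = ∑ j, g j * MvPowerSeries.C (j : A) := by
    ext d
    simp only [map_sum, MvPowerSeries.coeff_mul_C, ← hc]
    rfl
  rw [hf]
  exact Ideal.sum_mem _ fun j _ => Ideal.mul_mem_left _ _ (Ideal.mem_map_of_mem _ (Ideal.subset_span j.2))

variable [IsLocalRing A] {n : ℕ}

/-- Setting all but the first variable equal to zero modulo the maximal ideal. -/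
noncomputable def axisMap (A : Type u) [CommRing A] [IsLocalRing A] (n : ℕ) :
    MvPowerSeries (Fin (n + 1)) A →ₐ[A] PowerSeries (ResidueField A) where
  toRingHom := (PowerSeries.map ((residue A).comp (MvPowerSeries.constantCoeff (σ := Fin n) (R := A)))).comp
    (MvPowerSeries.finSuccEquiv A n).toRingHom
  commutes' r := by
    show PowerSeries.map ((residue A).comp (MvPowerSeries.constantCoeff (σ := Fin n) (R := A))) (MvPowerSeries.finSuccEquiv A n (algebraMap A (MvPowerSeries (Fin (n + 1)) A) r)) = _
    rw [← MvPowerSeries.c_eq_algebraMap, MvPowerSeries.finSuccEquiv_C, PowerSeries.map_C, RingHom.comp_apply,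
      MvPowerSeries.constantCoeff_C, PowerSeries.algebraMap_apply, ResidueField.algebraMap_eq]

theorem axisMap_apply (f : MvPowerSeries (Fin (n + 1)) A) : axisMap A n f =
    PowerSeries.map ((residue A).comp MvPowerSeries.constantCoeff) (MvPowerSeries.finSuccEquiv A n f) := rfl

/-- After a change of variables a series nonzero modulo the maximal ideal is nonzero on the first axis. -/
theorem exists_changeOfVariables (f : MvPowerSeries (Fin (n + 1)) A)
    (hf : ∃ d, MvPowerSeries.coeff d f ∉ maximalIdeal A) :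
    ∃ φ : MvPowerSeries (Fin (n + 1)) A ≃ₐ[A] MvPowerSeries (Fin (n + 1)) A, axisMap A n (φ f) ≠ 0 := by
  classical
  obtain ⟨d₁, hd₁⟩ := hf
  let S : Set (Fin (n + 1) → ℕ) := {d | MvPowerSeries.coeff (Finsupp.equivFunOnFinite.symm d) f ∉ maximalIdeal A}
  have hS : S.Nonempty := ⟨Finsupp.equivFunOnFinite d₁, by
    simp only [S, Set.mem_ofPred_eq, Equiv.symm_apply_apply]; exact hd₁⟩
  obtain ⟨w, α, hα, hw, hw1, huniq⟩ := exists_weights (n + 1) S hS
  let K : Ideal (MvPowerSeries (Fin (n + 1)) A) := Ideal.span (Set.range MvPowerSeries.X)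
  haveI : IsAdicComplete K (MvPowerSeries (Fin (n + 1)) A) :=
    inferInstanceAs (IsAdicComplete (Ideal.span (Set.range MvPowerSeries.X)) _)
  let b : Fin (n + 1) → MvPowerSeries (Fin (n + 1)) A := fun i =>
    if i = 0 then MvPowerSeries.X 0 else MvPowerSeries.X i + MvPowerSeries.X 0 ^ w i
  let b' : Fin (n + 1) → MvPowerSeries (Fin (n + 1)) A := fun i =>
    if i = 0 then MvPowerSeries.X 0 else MvPowerSeries.X i - MvPowerSeries.X 0 ^ w i
  have hXK : ∀ i, (MvPowerSeries.X i : MvPowerSeries (Fin (n + 1)) A) ∈ K := fun i => Ideal.subset_span ⟨i, rfl⟩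
  have hb : ∀ i, b i ∈ K := fun i => by
    by_cases hi : i = 0
    · simp only [b, hi, if_true]; exact hXK 0
    · simp only [b, hi, if_false]; exact add_mem (hXK i) (Ideal.pow_mem_of_mem _ (hXK 0) _ (hw i))
  have hb' : ∀ i, b' i ∈ K := fun i => by
    by_cases hi : i = 0
    · simp only [b', hi, if_true]; exact hXK 0
    · simp only [b', hi, if_false]; exact sub_mem (hXK i) (Ideal.pow_mem_of_mem _ (hXK 0) _ (hw i))
  obtain ⟨φ, hφ⟩ := ArtFunLib.ps_exists_lift (Λ := A) K b hb
  obtain ⟨φ', hφ'⟩ := ArtFunLib.ps_exists_lift (Λ := A) K b' hb'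
  have h1 : φ.comp φ' = AlgHom.id A _ := (ArtFunLib.ps_ext K (g := AlgHom.id A _) (fun i => hXK i) fun i => by
    rw [AlgHom.id_apply, AlgHom.comp_apply, hφ']
    by_cases hi : i = 0
    · subst hi; simp [b', hφ, b]
    · simp [b', hφ, b, hi]).symm
  have h2 : φ'.comp φ = AlgHom.id A _ := (ArtFunLib.ps_ext K (g := AlgHom.id A _) (fun i => hXK i) fun i => by
    rw [AlgHom.id_apply, AlgHom.comp_apply, hφ]
    by_cases hi : i = 0
    · subst hi; simp [b', hφ', b]
    · simp [b', hφ', b, hi]).symm
  refine ⟨AlgEquiv.ofAlgHom φ φ' h1 h2, ?_⟩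
  -- the composite substitutes powers of the variable
  let a : Fin (n + 1) → MvPowerSeries Unit (ResidueField A) := fun i => (PowerSeries.X : PowerSeries (ResidueField A)) ^ w i
  have ha : MvPowerSeries.HasSubst a := MvPowerSeries.hasSubst_of_constantCoeff_zero fun i => by
    show PowerSeries.constantCoeff ((PowerSeries.X : PowerSeries (ResidueField A)) ^ w i) = 0
    rw [map_pow, PowerSeries.constantCoeff_X, zero_pow (hw i).ne']
  let ψ : MvPowerSeries (Fin (n + 1)) A →ₐ[A] PowerSeries (ResidueField A) := MvPowerSeries.substAlgHom ha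
  have hψX : ∀ i, ψ (MvPowerSeries.X i) = PowerSeries.X ^ w i := fun i => MvPowerSeries.substAlgHom_X ha i
  haveI := Groth.Agent.NagataLib.isAdicComplete_X (ResidueField A)
  have hψ : (axisMap A n).comp φ = ψ := (ArtFunLib.ps_ext (Ideal.span {(PowerSeries.X : PowerSeries (ResidueField A))})
    (g := ψ) (fun i => by rw [hψX]; exact Ideal.pow_mem_of_mem _ (Ideal.mem_span_singleton_self _) _ (hw i)) fun i => by
      rw [hψX, AlgHom.comp_apply, hφ]
      cases i using Fin.cases with
      | zero => simp [b, hw1 0 rfl, axisMap_apply, MvPowerSeries.finSuccEquiv_X_zero]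
      | succ j =>
        simp [b, axisMap_apply, MvPowerSeries.finSuccEquiv_X_zero, MvPowerSeries.finSuccEquiv_X_succ]).symm
  show ((axisMap A n).comp φ) f ≠ 0
  rw [hψ]
  intro h0
  apply hα
  have hc := congrArg (PowerSeries.coeff (∑ i, w i * α i)) h0
  rw [map_zero] at hc
  have hcalc : PowerSeries.coeff (∑ i, w i * α i) (ψ f) =
      residue A (MvPowerSeries.coeff (Finsupp.equivFunOnFinite.symm α) f) := by
    show MvPowerSeries.coeff (Finsupp.single () (∑ i, w i * α i)) (MvPowerSeries.substAlgHom ha f) = _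
    have hprod : ∀ d : Fin (n + 1) →₀ ℕ,
        d.prod (fun s e => a s ^ e) = (PowerSeries.X : PowerSeries (ResidueField A)) ^ (∑ i, w i * d i) := by
      intro d
      rw [Finsupp.prod_fintype _ _ (fun i => pow_zero _), ← Finset.prod_pow_eq_pow_sum]
      exact Finset.prod_congr rfl fun i _ => (pow_mul _ _ _).symm
    rw [MvPowerSeries.substAlgHom_apply, MvPowerSeries.coeff_subst ha,
      finsum_eq_single _ (Finsupp.equivFunOnFinite.symm α) fun d hd => ?_]
    · show _ • PowerSeries.coeff _ (Finsupp.prod _ _) = _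
      rw [hprod]
      simp [PowerSeries.coeff_X_pow, Algebra.smul_def, ResidueField.algebraMap_eq]
    · show _ • PowerSeries.coeff _ (Finsupp.prod _ _) = _
      rw [hprod, PowerSeries.coeff_X_pow]
      by_cases hwd : ∑ i, w i * α i = ∑ i, w i * d i
      · have hm : MvPowerSeries.coeff d f ∈ maximalIdeal A := by
          by_contra hm
          apply hd
          have := huniq (Finsupp.equivFunOnFinite d) (by
            simp only [S, Set.mem_ofPred_eq, Equiv.symm_apply_apply]; exact hm) hwd.symm
          rw [← this, Equiv.symm_apply_apply]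
        rw [Algebra.smul_def, ResidueField.algebraMap_eq, (residue_eq_zero_iff _).2 hm, zero_mul]
      · rw [if_neg hwd, smul_zero]
  rw [hcalc] at hc
  exact (residue_eq_zero_iff _).1 hc

/-- **Ramanujam–Samuel for power series rings.** -/
theorem isPrincipal [IsDomain A] [IsNoetherianRing A] [IsIntegrallyClosed A] [IsAdicComplete (maximalIdeal A) A]
    (q : Ideal (MvPowerSeries (Fin n) A)) [q.IsPrime] (hq : q.height = 1)
    (hqm : ¬ q ≤ (maximalIdeal A).map (MvPowerSeries.C : A →+* MvPowerSeries (Fin n) A)) :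
    q.IsPrincipal := by
  obtain ⟨f, hfq, hf⟩ := SetLike.not_le_iff_exists.1 hqm
  have hfc : ∃ d, MvPowerSeries.coeff d f ∉ maximalIdeal A := by
    by_contra! hh
    exact hf (mem_map_C_of_coeff_mem (IsNoetherian.noetherian _) f hh)
  cases n with
  | zero =>
    obtain ⟨d, hd⟩ := hfc
    rw [Subsingleton.elim d 0] at hd
    exact absurd (Ideal.eq_top_of_isUnit_mem _ hfq
      (MvPowerSeries.isUnit_iff_constantCoeff.2 (by simpa using hd))) (Ideal.IsPrime.ne_top ‹_›)
  | succ n =>
    obtain ⟨φ, hφ⟩ := exists_changeOfVariables f hfc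
    haveI : IsDomain (MvPowerSeries (Fin n) A) := NoZeroDivisors.to_isDomain _
    obtain ⟨hN, hI⟩ := noetherian_normal A n
    haveI := hN
    haveI := hI
    obtain ⟨_, _, _, hcomp⟩ := ArtFunLib.exists_psCRing (Λ := A) (k := ResidueField A) residue_surjective n
    haveI := hcomp
    let e : MvPowerSeries (Fin (n + 1)) A ≃+* PowerSeries (MvPowerSeries (Fin n) A) :=
      (φ.trans (MvPowerSeries.finSuccEquiv A n)).toRingEquiv
    let q' : Ideal (PowerSeries (MvPowerSeries (Fin n) A)) := q.comap e.symm
    haveI : q'.IsPrime := Ideal.IsPrime.comap _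
    have hq' : q'.height = 1 := by rw [RingEquiv.height_comap, hq]
    have hg : e f ∈ q' := by simpa [q'] using hfq
    have hg0 : (e f).map (residue (MvPowerSeries (Fin n) A)) ≠ 0 := fun h0 => hφ (by
      ext i
      rw [axisMap_apply, PowerSeries.coeff_map, map_zero, RingHom.comp_apply, residue_eq_zero_iff, mem_maximalIdeal]
      have h1 := congrArg (PowerSeries.coeff i) h0
      rw [PowerSeries.coeff_map, map_zero, residue_eq_zero_iff, mem_maximalIdeal] at h1
      exact fun hu => h1 (MvPowerSeries.isUnit_iff_constantCoeff.2 hu))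
    obtain ⟨x, hx⟩ := (isPrincipal_powerSeries q' hq' (e f) hg hg0).principal
    refine ⟨e.symm x, ?_⟩
    rw [Ideal.submodule_span_eq] at hx ⊢
    rw [← Set.image_singleton, ← Ideal.map_span, ← hx]
    exact (Ideal.map_comap_of_surjective _ e.symm.surjective q).symm

end Groth.Agent.RamSamLib
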