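import Groth.Agent.RamSamLib.Prep
import Groth.Agent.LocFlat.Basic
import Groth.Agent.FiniteCompleteLib.Basic

/-!
# The Ramanujam–Samuel theorem for complete algebras whose closed fibre is a discrete valuation ring
-/

set_option autoImplicit false
set_option linter.style.haveILetI false
set_option linter.unusedSectionVars false

universe u

open IsLocalRing Polynomial TensorProduct

namespace Groth.Agent.RamSamLib

variable {C R : Type u} [CommRing C] [CommRing R]

/-- A height one prime containing an element `ι f` with `C[X] ⧸ f ≅ R ⧸ ι f` is principal. -/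
theorem isPrincipal_of_bijective [IsDomain C] [IsIntegrallyClosed C] [IsDomain R] [IsNoetherianRing R]
    (ι : C[X] →+* R) (q : Ideal R) [q.IsPrime] (hq : q.height = 1) (f : C[X]) (hf : f.Monic)
    (hfq : ι f ∈ q) (hf0 : ι f ≠ 0)
    (hsurj : ∀ s : R, ∃ a : C[X], s - ι a ∈ Ideal.span {ι f})
    (hinj : ∀ a : C[X], ι a ∈ Ideal.span {ι f} → a ∈ Ideal.span {f}) : q.IsPrincipal := by
  let P : Ideal C[X] := q.comap ι
  haveI : P.IsPrime := Ideal.IsPrime.comap ι
  have hfP : f ∈ P := hfq
  have hspan : Ideal.span {ι f} ≤ q := (Ideal.span_singleton_le_iff_mem _).2 hfq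
  have hgen : q = P.map ι := by
    refine le_antisymm (fun s hs => ?_) Ideal.map_comap_le
    obtain ⟨a, ha⟩ := hsurj s
    have ha' : a ∈ P := by
      show ι a ∈ q
      simpa using sub_mem hs (hspan ha)
    rw [show s = (s - ι a) + ι a by ring]
    refine add_mem ?_ (Ideal.mem_map_of_mem _ ha')
    obtain ⟨t, ht⟩ := Ideal.mem_span_singleton.1 ha
    rw [ht]
    exact Ideal.mul_mem_right _ _ (Ideal.mem_map_of_mem ι hfP)
  have h0 : P.comap (Polynomial.C) = ⊥ := by
    let Q := C[X] ⧸ Ideal.span {f}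
    haveI : Module.Free C Q := (AdjoinRoot.powerBasis' hf).basis |> fun b => Module.Free.of_basis b
    haveI : Algebra.HasGoingDown C Q := Algebra.HasGoingDown.of_flat
    let e₀ : Q →+* R ⧸ Ideal.span {ι f} := Ideal.quotientMap _ ι
      ((Ideal.span_singleton_le_iff_mem _).2 (Ideal.mem_span_singleton_self _))
    have he : Function.Bijective e₀ := by
      refine ⟨(injective_iff_map_eq_zero _).2 fun x hx => ?_, fun y => ?_⟩
      · obtain ⟨a, rfl⟩ := Ideal.Quotient.mk_surjective x
        exact Ideal.Quotient.eq_zero_iff_mem.2 (hinj a (Ideal.Quotient.eq_zero_iff_mem.1 hx))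
      · obtain ⟨s, rfl⟩ := Ideal.Quotient.mk_surjective y
        obtain ⟨a, ha⟩ := hsurj s
        exact ⟨Ideal.Quotient.mk _ a, (Ideal.Quotient.eq.2 ha).symm⟩
    let e : Q ≃+* R ⧸ Ideal.span {ι f} := RingEquiv.ofBijective e₀ he
    let π : R →+* Q := e.symm.toRingHom.comp (Ideal.Quotient.mk _)
    have hπ : Function.Surjective π := e.symm.surjective.comp Ideal.Quotient.mk_surjective
    let P' : Ideal Q := P.map (Ideal.Quotient.mk _)
    have hle : Ideal.span {f} ≤ P := (Ideal.span_singleton_le_iff_mem _).2 hfP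
    haveI : P'.IsPrime := Ideal.map_isPrime_of_surjective Ideal.Quotient.mk_surjective (by rw [Ideal.mk_ker]; exact hle)
    have hPc : P'.comap (Ideal.Quotient.mk _) = P := by
      rw [Ideal.comap_map_of_surjective _ Ideal.Quotient.mk_surjective, ← RingHom.ker_eq_comap_bot, Ideal.mk_ker,
        sup_eq_left.2 hle]
    have hunder : P'.under C = P.comap Polynomial.C := by
      rw [← hPc, Ideal.comap_comap]; rfl
    haveI : (P.comap (Polynomial.C)).IsPrime := Ideal.IsPrime.comap _
    by_contra hne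
    obtain ⟨T, hTP, hT, hTb⟩ : ∃ T : Ideal Q, T ≤ P' ∧ T.IsPrime ∧ T.under C = ⊥ := by
      haveI : (⊥ : Ideal C).IsPrime := Ideal.isPrime_bot
      haveI : P'.LiesOver (P.comap Polynomial.C) := ⟨hunder.symm⟩
      obtain ⟨T, h1, h2, h3⟩ := Ideal.exists_ideal_le_liesOver_of_le (p := (⊥ : Ideal C))
        (q := P.comap Polynomial.C) P' bot_le
      exact ⟨T, h1, h2, h3.over.symm⟩
    have hlt : T < P' := lt_of_le_of_ne hTP fun h => hne (by rw [← hunder, ← h, hTb])
    have hlt' : T.comap π < P'.comap π := lt_of_le_of_ne (Ideal.comap_mono hTP)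
      fun h => hlt.ne (Ideal.comap_injective_of_surjective π hπ h)
    have hP'q : P'.comap π ≤ q := by
      intro s hs
      obtain ⟨a, ha, hae⟩ := (Ideal.mem_map_iff_of_surjective _ Ideal.Quotient.mk_surjective).1 (Ideal.mem_comap.1 hs)
      have h1 : Ideal.Quotient.mk (Ideal.span {ι f}) (ι a) = Ideal.Quotient.mk _ s := by
        show e (Ideal.Quotient.mk _ a) = _
        rw [hae]; exact e.apply_symm_apply _
      have := sub_mem (show ι a ∈ q from ha) (hspan (Ideal.Quotient.eq.1 h1))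
      simpa using this
    haveI : (T.comap π).IsPrime := hT.comap π
    have hne0 : T.comap π ≠ ⊥ := fun hb => by
      have : ι f ∈ T.comap π := by
        rw [Ideal.mem_comap]
        show e.symm (Ideal.Quotient.mk _ (ι f)) ∈ T
        rw [Ideal.Quotient.mk_singleton_self, map_zero]
        exact zero_mem _
      rw [hb, Ideal.mem_bot] at this
      exact hf0 this
    have h1 : (T.comap π).height + 1 ≤ q.height :=
      Ideal.height_add_one_le_of_lt_of_isPrime (hlt'.trans_le hP'q)
    have h2 : (1 : ℕ∞) ≤ (T.comap π).height := by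
      rw [Order.one_le_iff_ne_zero, Ne, Ideal.height_eq_zero_iff_eq_bot]
      exact hne0
    have : (2 : ℕ∞) ≤ 1 := by
      rw [← hq]
      exact le_trans (le_of_eq_of_le one_add_one_eq_two.symm (add_le_add_left h2 1)) h1
    norm_num at this
  obtain ⟨p, hp⟩ := (isPrincipal_of_comap_eq_bot P f hf hfP h0).principal
  exact ⟨ι p, by rw [hgen, hp, Ideal.submodule_span_eq, Ideal.map_span, Set.image_singleton]⟩

section Fibre

variable [IsLocalRing C] [IsLocalRing R] [IsNoetherianRing R] [Algebra C R] (t : R) (g : C[X])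

/-- The data of a closed fibre which is a discrete valuation ring monogenic over the base. -/
structure FibreData : Prop where
  monic : g.Monic
  irred : Irreducible (g.map (residue C))
  prime : ((maximalIdeal C).map (algebraMap C R)).IsPrime
  notMem : aeval t g ∉ (maximalIdeal C).map (algebraMap C R)
  max_eq : maximalIdeal R = (maximalIdeal C).map (algebraMap C R) ⊔ Ideal.span {aeval t g}
  res : ∀ y : R, ∃ p : C[X], y - aeval t p ∈ maximalIdeal R

variable {t g} (hd : FibreData (C := C) (R := R) t g)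

local notation "P₀" => Ideal.map (algebraMap C R) (maximalIdeal C)

include hd

theorem FibreData.map_mem {p : C[X]} (hp : ∀ i, p.coeff i ∈ maximalIdeal C) : aeval t p ∈ P₀ := by
  rw [aeval_eq_sum_range]
  exact Ideal.sum_mem _ fun i _ => by
    rw [Algebra.smul_def]; exact Ideal.mul_mem_right _ _ (Ideal.mem_map_of_mem _ (hp i))

theorem FibreData.pow_notMem {j e : ℕ} (hje : j < e) :
    aeval t g ^ j ∉ P₀ ⊔ Ideal.span {aeval t g ^ e} := by
  haveI := hd.prime
  intro h
  obtain ⟨a, ha, b, hb, hab⟩ := Submodule.mem_sup.1 h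
  obtain ⟨r, rfl⟩ := Ideal.mem_span_singleton'.1 hb
  have hu : IsUnit (1 - aeval t g ^ (e - j) * r) := IsLocalRing.isUnit_one_sub_self_of_mem_nonunits _ (by
    have hm : aeval t g ∈ maximalIdeal R := hd.max_eq ▸ Ideal.mem_sup_right (Ideal.mem_span_singleton_self _)
    exact Ideal.mul_mem_right _ _ (Ideal.pow_mem_of_mem _ hm _ (by omega)))
  have e1 : aeval t g ^ j * (1 - aeval t g ^ (e - j) * r) = a := by
    rw [mul_sub, ← mul_assoc, ← pow_add, Nat.add_sub_cancel' hje.le]
    linear_combination -hab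
  rcases (hd.prime).mem_or_mem (e1 ▸ ha : aeval t g ^ j * _ ∈ P₀) with h1 | h1
  · exact hd.notMem (hd.prime.mem_of_pow_mem _ h1)
  · exact hd.prime.ne_top (Ideal.eq_top_of_isUnit_mem _ h1 hu)

theorem FibreData.surjective (e : ℕ) (y : R) : ∃ p : C[X], y - aeval t p ∈ P₀ ⊔ Ideal.span {aeval t g ^ e} := by
  induction e generalizing y with
  | zero => exact ⟨0, by simp⟩
  | succ e ih =>
    obtain ⟨p, hp⟩ := hd.res y
    rw [hd.max_eq] at hp
    obtain ⟨a, ha, b, hb, hab⟩ := Submodule.mem_sup.1 hp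
    obtain ⟨r, rfl⟩ := Ideal.mem_span_singleton'.1 hb
    obtain ⟨p', hp'⟩ := ih r
    obtain ⟨a', ha', b', hb', hab'⟩ := Submodule.mem_sup.1 hp'
    obtain ⟨r', rfl⟩ := Ideal.mem_span_singleton'.1 hb'
    refine ⟨p + g * p', Submodule.mem_sup.2 ⟨a + a' * aeval t g, add_mem ha (Ideal.mul_mem_right _ _ ha'),
      r' * aeval t g ^ (e + 1), Ideal.mem_span_singleton'.2 ⟨r', rfl⟩, ?_⟩⟩
    rw [map_add, map_mul, pow_succ]
    linear_combination hab + aeval t g * hab'

theorem FibreData.map_dvd {e : ℕ} {p : C[X]} (hp : aeval t p ∈ P₀ ⊔ Ideal.span {aeval t g ^ e}) :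
    g.map (residue C) ^ e ∣ p.map (residue C) := by
  classical
  let S := R ⧸ (P₀ ⊔ Ideal.span {aeval t g ^ e})
  let φ : C[X] →+* S := (Ideal.Quotient.mk _).comp (aeval t : C[X] →ₐ[C] R).toRingHom
  have hsurj : Function.Surjective (mapRingHom (residue C)) := Polynomial.map_surjective _ residue_surjective
  have hker : RingHom.ker (mapRingHom (residue C)) ≤ RingHom.ker φ := fun q hq => by
    refine Ideal.Quotient.eq_zero_iff_mem.2 (Ideal.mem_sup_left (hd.map_mem fun i => ?_))
    have := congrArg (fun r => coeff r i) (RingHom.mem_ker.1 hq)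
    simpa [residue_eq_zero_iff] using this
  let ψ : (ResidueField C)[X] →+* S := RingHom.liftOfSurjective (mapRingHom (residue C)) hsurj ⟨φ, hker⟩
  have hψ : ∀ q : C[X], ψ (q.map (residue C)) = φ q := fun q =>
    RingHom.liftOfRightInverse_comp_apply _ _ _ _ q
  obtain ⟨w, hw⟩ := (IsPrincipalIdealRing.principal (RingHom.ker ψ)).principal
  rw [Ideal.submodule_span_eq] at hw
  have hpe : g.map (residue C) ^ e ∈ RingHom.ker ψ := by
    rw [RingHom.mem_ker, ← Polynomial.map_pow, hψ]
    exact Ideal.Quotient.eq_zero_iff_mem.2 (Ideal.mem_sup_right (by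
      show aeval t (g ^ e) ∈ _
      rw [map_pow]; exact Ideal.mem_span_singleton_self _))
  have hpk : p.map (residue C) ∈ RingHom.ker ψ := by
    rw [RingHom.mem_ker, hψ]; exact Ideal.Quotient.eq_zero_iff_mem.2 hp
  rw [hw, Ideal.mem_span_singleton] at hpe hpk
  obtain ⟨j, hje, hj⟩ := (dvd_prime_pow hd.irred.prime e).1 hpe
  rcases hje.lt_or_eq with hlt | rfl
  · exfalso
    apply hd.pow_notMem hlt
    have hmem : g.map (residue C) ^ j ∈ RingHom.ker ψ := by
      rw [hw, Ideal.mem_span_singleton]; exact hj.dvd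
    rw [RingHom.mem_ker, ← Polynomial.map_pow, hψ] at hmem
    have := Ideal.Quotient.eq_zero_iff_mem.1 hmem
    simpa using this
  · exact hj.symm.dvd.trans hpk

variable [IsNoetherianRing C] [IsAdicComplete (maximalIdeal C) C]

/-- Polynomials of small degree exhaust the quotient by an element with known image in the fibre. -/
theorem FibreData.exists_repr {e : ℕ} {x : R}
    (hx : P₀ ⊔ Ideal.span {x} = P₀ ⊔ Ideal.span {aeval t g ^ e}) (y : R) :
    ∃ p : C[X], p ∈ degreeLT C (g.natDegree * e) ∧ y - aeval t p ∈ Ideal.span {x} := by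
  classical
  let D := g.natDegree * e
  let M := R ⧸ Ideal.span {x}
  let f₀ : degreeLT C D →ₗ[C] M :=
    ((Ideal.Quotient.mkₐ C (Ideal.span {x})).toLinearMap.comp (aeval t : C[X] →ₐ[C] R).toLinearMap).comp
      (degreeLT C D).subtype
  haveI : Module.Finite C (degreeLT C D) := Module.Finite.equiv (degreeLTEquiv C D).symm
  haveI := _root_.FiniteCompleteLib.isAdicComplete_of_finite (maximalIdeal C) (degreeLT C D)
  haveI : IsHausdorff (maximalIdeal C) M := ⟨fun z hz => by
    have hP : P₀ ≤ maximalIdeal R := by rw [hd.max_eq]; exact le_sup_left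
    have hb := Ideal.iInf_pow_smul_eq_bot_of_le_jacobson (M := M) P₀
      (hP.trans (IsLocalRing.maximalIdeal_le_jacobson _))
    rw [← Submodule.mem_bot R, ← hb, Submodule.mem_iInf]
    intro n
    have h1 := SModEq.zero.1 (hz n)
    refine Submodule.smul_induction_on h1 (fun a ha m _ => ?_) fun a b ha hb => add_mem ha hb
    rw [← IsScalarTower.algebraMap_smul R a m]
    exact Submodule.smul_mem_smul (by rw [← Ideal.map_pow]; exact Ideal.mem_map_of_mem _ ha) Submodule.mem_top⟩
  have hge : (g ^ e).Monic := hd.monic.pow e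
  have hdeg : ∀ p : C[X], p %ₘ (g ^ e) ∈ degreeLT C D := fun p => by
    rw [mem_degreeLT]
    refine lt_of_lt_of_le (degree_modByMonic_lt p hge) ?_
    rw [degree_eq_natDegree hge.ne_zero, hd.monic.natDegree_pow, mul_comm e]
  have hf₀ : Function.Surjective f₀ := by
    refine surjective_of_mkQ_comp_surjective (I := maximalIdeal C) fun z => ?_
    obtain ⟨z', rfl⟩ := Submodule.mkQ_surjective _ z
    obtain ⟨z, rfl⟩ := Ideal.Quotient.mk_surjective z'
    obtain ⟨p, hp⟩ := hd.surjective e z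
    refine ⟨⟨p %ₘ (g ^ e), hdeg p⟩, (Submodule.Quotient.eq _).2 ?_⟩
    show Ideal.Quotient.mk (Ideal.span {x}) (aeval t (p %ₘ (g ^ e))) - Ideal.Quotient.mk _ z ∈ _
    rw [← map_sub, Ideal.smul_top_eq_map, Submodule.restrictScalars_mem]
    have hm : (maximalIdeal C).map (algebraMap C M) = Ideal.map (Ideal.Quotient.mk (Ideal.span {x})) P₀ := by
      rw [Ideal.map_map]; rfl
    rw [hm]
    have hmem : aeval t (p %ₘ (g ^ e)) - z ∈ P₀ ⊔ Ideal.span {x} := by
      rw [hx]
      have h2 := congrArg (aeval t) (modByMonic_add_div p (g ^ e))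
      rw [map_add, map_mul, map_pow] at h2
      rw [show aeval t (p %ₘ g ^ e) - z = -(z - aeval t p) - aeval t g ^ e * aeval t (p /ₘ g ^ e) by
        linear_combination h2]
      exact sub_mem (neg_mem hp) (Ideal.mem_sup_right (Ideal.mul_mem_right _ _ (Ideal.mem_span_singleton_self _)))
    obtain ⟨a, ha, b, hb, hab⟩ := Submodule.mem_sup.1 hmem
    rw [← hab, map_add, (Ideal.Quotient.eq_zero_iff_mem.2 hb), add_zero]
    exact Ideal.mem_map_of_mem _ ha
  obtain ⟨⟨p, hp⟩, hpy⟩ := hf₀ (Ideal.Quotient.mk _ y)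
  exact ⟨p, hp, Ideal.Quotient.eq.1 hpy.symm⟩

/-- An element outside the closed fibre prime divides a monic polynomial with the same fibre. -/
theorem FibreData.exists_monic {x : R} (hx : x ∉ P₀) : ∃ (e : ℕ) (H : C[X]), H.Monic ∧ H.natDegree = g.natDegree * e ∧
    aeval t H ∈ Ideal.span {x} ∧ P₀ ⊔ Ideal.span {aeval t H} = P₀ ⊔ Ideal.span {aeval t g ^ e} := by
  classical
  haveI := hd.prime
  have hnot : ∃ n, x ∉ P₀ ⊔ Ideal.span {aeval t g ^ n} := by
    by_contra! hh
    apply hx
    haveI : Nontrivial (R ⧸ P₀) := Ideal.Quotient.nontrivial_iff.2 hd.prime.ne_top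
    haveI : IsLocalRing (R ⧸ P₀) := IsLocalRing.of_surjective' _ Ideal.Quotient.mk_surjective
    have hb := Ideal.iInf_pow_eq_bot_of_isLocalRing (R := R ⧸ P₀) (Ideal.span {Ideal.Quotient.mk P₀ (aeval t g)}) (by
      rw [Ne, Ideal.span_singleton_eq_top]
      intro hu
      obtain ⟨b, hb⟩ := hu.exists_right_inv
      obtain ⟨b, rfl⟩ := Ideal.Quotient.mk_surjective b
      rw [← map_mul, ← map_one (Ideal.Quotient.mk P₀), Ideal.Quotient.eq] at hb
      have hG : aeval t g ∈ maximalIdeal R := hd.max_eq ▸ Ideal.mem_sup_right (Ideal.mem_span_singleton_self _)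
      have h1 : aeval t g * b - 1 ∈ maximalIdeal R := hd.max_eq ▸ Ideal.mem_sup_left hb
      refine (maximalIdeal.isMaximal R).ne_top ((Ideal.eq_top_iff_one _).2 ?_)
      simpa using sub_mem (Ideal.mul_mem_right b _ hG) h1)
    rw [← Ideal.Quotient.eq_zero_iff_mem, ← Submodule.mem_bot (R ⧸ P₀), ← hb, Submodule.mem_iInf]
    intro n
    obtain ⟨a, ha, b, hb', hab⟩ := Submodule.mem_sup.1 (hh n)
    rw [← hab, map_add, (Ideal.Quotient.eq_zero_iff_mem.2 ha), zero_add, Ideal.span_singleton_pow, ← map_pow,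
      ← Set.image_singleton, ← Ideal.map_span]
    exact Ideal.mem_map_of_mem _ hb'
  obtain ⟨e, he⟩ : ∃ e, Nat.find hnot = e + 1 := Nat.exists_eq_succ_of_ne_zero fun h0 => by
    have := Nat.find_spec hnot
    rw [h0] at this
    exact this (by simp)
  have hmem : x ∈ P₀ ⊔ Ideal.span {aeval t g ^ e} := by_contra (Nat.find_min hnot (by omega))
  have hnm : x ∉ P₀ ⊔ Ideal.span {aeval t g ^ (e + 1)} := he ▸ Nat.find_spec hnot
  obtain ⟨a, ha, b, hb, hab⟩ := Submodule.mem_sup.1 hmem
  obtain ⟨r, rfl⟩ := Ideal.mem_span_singleton'.1 hb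
  have hr : IsUnit r := by
    by_contra hr
    apply hnm
    have hr' : r ∈ P₀ ⊔ Ideal.span {aeval t g} := hd.max_eq ▸ (mem_maximalIdeal r).2 hr
    obtain ⟨a', ha', b', hb', hr'⟩ := Submodule.mem_sup.1 hr'
    obtain ⟨r', rfl⟩ := Ideal.mem_span_singleton'.1 hb'
    refine Submodule.mem_sup.2 ⟨a + a' * aeval t g ^ e, add_mem ha (Ideal.mul_mem_right _ _ ha'),
      r' * aeval t g ^ (e + 1), Ideal.mem_span_singleton'.2 ⟨r', rfl⟩, ?_⟩
    rw [pow_succ]
    linear_combination hab + aeval t g ^ e * hr'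
  obtain ⟨r, rfl⟩ := hr
  have hxe : P₀ ⊔ Ideal.span {x} = P₀ ⊔ Ideal.span {aeval t g ^ e} := by
    refine le_antisymm (sup_le le_sup_left ((Ideal.span_singleton_le_iff_mem _).2 hmem))
      (sup_le le_sup_left ((Ideal.span_singleton_le_iff_mem _).2 ?_))
    refine Submodule.mem_sup.2 ⟨-(↑r⁻¹ * a), neg_mem (Ideal.mul_mem_left _ _ ha), ↑r⁻¹ * x,
      Ideal.mem_span_singleton'.2 ⟨_, rfl⟩, ?_⟩
    rw [← hab]
    calc _ = ((↑r⁻¹ : R) * ↑r) * aeval t g ^ e := by ring
      _ = _ := by rw [Units.inv_mul, one_mul]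
  let D := g.natDegree * e
  obtain ⟨p, hp, hpy⟩ := hd.exists_repr hxe (t ^ D)
  let H : C[X] := X ^ D - p
  have hHm : H.Monic := monic_X_pow_sub (n := D) (mem_degreeLT.1 hp)
  have hHdeg : H.natDegree = D := by
    apply natDegree_eq_of_degree_eq_some
    rw [degree_sub_eq_left_of_degree_lt (by rw [degree_X_pow]; exact mem_degreeLT.1 hp), degree_X_pow]
  have hHx : aeval t H ∈ Ideal.span {x} := by
    show aeval t (X ^ D - p) ∈ _
    rwa [map_sub, map_pow, aeval_X]
  have hHe : aeval t H ∈ P₀ ⊔ Ideal.span {aeval t g ^ e} := hxe ▸ Ideal.mem_sup_right hHx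
  refine ⟨e, H, hHm, hHdeg, hHx, ?_⟩
  have hdeg : (g.map (residue C) ^ e).natDegree = D := by
    rw [(hd.monic.map _).natDegree_pow, hd.monic.natDegree_map, mul_comm]
  have heq : H.map (residue C) = g.map (residue C) ^ e := by
    refine eq_of_monic_of_dvd_of_natDegree_le ((hd.monic.map _).pow e) (hHm.map _) (hd.map_dvd hHe) ?_
    rw [hdeg, hHm.natDegree_map, hHdeg]
  have hdiff : aeval t H - aeval t g ^ e ∈ P₀ := by
    rw [← map_pow, ← map_sub]
    refine hd.map_mem fun i => ?_
    rw [← residue_eq_zero_iff, ← coeff_map, Polynomial.map_sub, heq, Polynomial.map_pow, sub_self, coeff_zero]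
  refine le_antisymm (sup_le le_sup_left ((Ideal.span_singleton_le_iff_mem _).2 hHe))
    (sup_le le_sup_left ((Ideal.span_singleton_le_iff_mem _).2 ?_))
  exact Submodule.mem_sup.2 ⟨-(aeval t H - aeval t g ^ e), neg_mem hdiff, aeval t H, Ideal.mem_span_singleton_self _, by ring⟩

variable [Module.Flat C R] [IsLocalHom (algebraMap C R)]

/-- Injectivity modulo a monic polynomial with power of `g` as fibre. -/
theorem FibreData.mem_span_of_aeval {e : ℕ} {H : C[X]} (hH : H.Monic) (hdeg : H.natDegree = g.natDegree * e)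
    (hHe : P₀ ⊔ Ideal.span {aeval t H} = P₀ ⊔ Ideal.span {aeval t g ^ e})
    {p : C[X]} (hp : aeval t p ∈ Ideal.span {aeval t H}) : p ∈ Ideal.span {H} := by
  classical
  haveI := hd.prime
  let k := C ⧸ maximalIdeal C
  let h₀ : R := aeval t H
  have hh₀ : h₀ ∉ P₀ := fun hmem => by
    have h1 : aeval t g ^ e ∈ P₀ := by
      have := hHe.ge (Ideal.mem_sup_right (Ideal.mem_span_singleton_self (aeval t g ^ e)))
      rwa [sup_eq_left.2 ((Ideal.span_singleton_le_iff_mem _).2 hmem)] at this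
    exact hd.notMem (hd.prime.mem_of_pow_mem _ h1)
  have hsm : ∀ z : R, z ∈ (maximalIdeal C • ⊤ : Submodule C R) ↔ z ∈ P₀ := fun z => by
    rw [Ideal.smul_top_eq_map, Submodule.restrictScalars_mem]
  -- multiplication by `h₀`
  let μ : R →ₗ[C] R := LinearMap.mulLeft C h₀
  have hμ : Function.Injective (μ.lTensor (ResidueField C)) := by
    show Function.Injective (μ.lTensor k)
    rw [injective_iff_map_eq_zero]
    intro z hz
    obtain ⟨y, rfl⟩ : ∃ y : R, (Ideal.Quotient.mk (maximalIdeal C) 1) ⊗ₜ[C] y = z :=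
      TensorProduct.mk_surjective C R k Ideal.Quotient.mk_surjective z
    rw [LinearMap.lTensor_tmul] at hz
    have h1 := congrArg (quotTensorEquivQuotSMul R (maximalIdeal C)) hz
    rw [LinearEquiv.map_zero, quotTensorEquivQuotSMul_mk_tmul, one_smul, Submodule.Quotient.mk_eq_zero, hsm] at h1
    apply (quotTensorEquivQuotSMul R (maximalIdeal C)).injective
    rw [LinearEquiv.map_zero, quotTensorEquivQuotSMul_mk_tmul, one_smul, Submodule.Quotient.mk_eq_zero, hsm]
    exact (hd.prime.mem_or_mem h1).resolve_left hh₀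
  haveI hflat : Module.Flat C (R ⧸ LinearMap.range μ) := (LocFlat.injective_and_flat_of_residue (S := R) μ hμ).2
  let D := H.natDegree
  let f₀ : degreeLT C D →ₗ[C] R ⧸ LinearMap.range μ :=
    ((LinearMap.range μ).mkQ.comp (aeval t : C[X] →ₐ[C] R).toLinearMap).comp (degreeLT C D).subtype
  haveI : Module.Finite C (degreeLT C D) := Module.Finite.equiv (degreeLTEquiv C D).symm
  have hf₀ : Function.Injective (f₀.lTensor (ResidueField C)) := by
    show Function.Injective (f₀.lTensor k)
    rw [injective_iff_map_eq_zero]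
    intro z hz
    obtain ⟨⟨q, hq⟩, rfl⟩ : ∃ q : degreeLT C D, (Ideal.Quotient.mk (maximalIdeal C) 1) ⊗ₜ[C] q = z :=
      TensorProduct.mk_surjective C (degreeLT C D) k Ideal.Quotient.mk_surjective z
    rw [LinearMap.lTensor_tmul] at hz
    have h1 := congrArg (quotTensorEquivQuotSMul (R ⧸ LinearMap.range μ) (maximalIdeal C)) hz
    rw [LinearEquiv.map_zero, quotTensorEquivQuotSMul_mk_tmul, one_smul, Submodule.Quotient.mk_eq_zero] at h1
    have h2 : aeval t q ∈ P₀ ⊔ Ideal.span {h₀} := by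
      rw [show (⊤ : Submodule C (R ⧸ LinearMap.range μ)) = Submodule.map (LinearMap.range μ).mkQ ⊤ by
        rw [Submodule.map_top, Submodule.range_mkQ], ← Submodule.map_smul''] at h1
      obtain ⟨z, hz1, hz2⟩ := h1
      obtain ⟨r, hr⟩ := LinearMap.mem_range.1 ((Submodule.Quotient.eq _).1 hz2.symm)
      rw [show aeval t q = z + h₀ * r by
        rw [show h₀ * r = μ r from rfl, hr]
        exact (add_sub_cancel _ _).symm]
      exact add_mem (Ideal.mem_sup_left ((hsm z).1 hz1))
        (Ideal.mem_sup_right (Ideal.mul_mem_right _ _ (Ideal.mem_span_singleton_self _)))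
    rw [hHe] at h2
    have h3 : q.map (residue C) = 0 := by
      refine eq_zero_of_dvd_of_degree_lt (hd.map_dvd h2) ?_
      refine lt_of_le_of_lt (degree_map_le.trans le_rfl) (lt_of_lt_of_le (mem_degreeLT.1 hq) ?_)
      rw [degree_eq_natDegree ((hd.monic.map _).pow e).ne_zero, (hd.monic.map _).natDegree_pow, hd.monic.natDegree_map]
      show (H.natDegree : WithBot ℕ) ≤ _
      rw [hdeg, mul_comm]
    apply (quotTensorEquivQuotSMul (degreeLT C D) (maximalIdeal C)).injective
    rw [LinearEquiv.map_zero, quotTensorEquivQuotSMul_mk_tmul, one_smul, Submodule.Quotient.mk_eq_zero]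
    let b := (degreeLTEquiv C D)
    rw [← b.symm_apply_apply (⟨q, hq⟩ : degreeLT C D), pi_eq_sum_univ (b ⟨q, hq⟩), map_sum]
    refine sum_mem fun i _ => ?_
    rw [map_smul]
    refine Submodule.smul_mem_smul ?_ Submodule.mem_top
    show q.coeff i ∈ maximalIdeal C
    rw [← residue_eq_zero_iff, ← coeff_map, h3, coeff_zero]
  have hinj := (LocFlat.injective_and_flat_of_residue (S := C) f₀ hf₀).1
  obtain ⟨r, hr⟩ := Ideal.mem_span_singleton.1 hp
  have h0 : p %ₘ H ∈ degreeLT C D := mem_degreeLT.2 (by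
    rw [← degree_eq_natDegree hH.ne_zero]; exact degree_modByMonic_lt p hH)
  have hz : f₀ ⟨p %ₘ H, h0⟩ = 0 := by
    show (LinearMap.range μ).mkQ (aeval t (p %ₘ H)) = 0
    rw [Submodule.mkQ_apply, Submodule.Quotient.mk_eq_zero]
    refine ⟨r - aeval t (p /ₘ H), ?_⟩
    show h₀ * _ = _
    rw [mul_sub, ← hr, sub_eq_iff_eq_add, ← map_mul, ← map_add, modByMonic_add_div]
  have hrem : p %ₘ H = 0 := congrArg Subtype.val (hinj (hz.trans (map_zero f₀).symm) :
    (⟨p %ₘ H, h0⟩ : degreeLT C D) = 0)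
  exact Ideal.mem_span_singleton.2 ((modByMonic_eq_zero_iff_dvd hH).1 hrem)

/-- **Ramanujam–Samuel**: height one primes outside the closed fibre prime are principal. -/
theorem FibreData.isPrincipal [IsDomain C] [IsIntegrallyClosed C] [IsDomain R] (q : Ideal R) [q.IsPrime]
    (hq : q.height = 1) (hqP : ¬ q ≤ P₀) : q.IsPrincipal := by
  classical
  obtain ⟨x, hxq, hx⟩ := SetLike.not_le_iff_exists.1 hqP
  obtain ⟨e, H, hHm, hdeg, hHx, hHe⟩ := hd.exists_monic hx
  refine isPrincipal_of_bijective (aeval t : C[X] →ₐ[C] R).toRingHom q hq H hHm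
    ((Ideal.span_singleton_le_iff_mem _).2 hxq hHx) (fun h0 => ?_)
    (fun s => ?_) (fun a ha => hd.mem_span_of_aeval hHm hdeg hHe ha)
  · replace h0 : aeval t H = 0 := h0
    have h1 : aeval t g ^ e ∈ P₀ := by
      have := hHe.ge (Ideal.mem_sup_right (Ideal.mem_span_singleton_self (aeval t g ^ e)))
      rwa [h0, Ideal.span_singleton_eq_bot.2 rfl, sup_bot_eq] at this
    exact hd.notMem (hd.prime.mem_of_pow_mem _ h1)
  · obtain ⟨p, -, hp⟩ := hd.exists_repr hHe s
    exact ⟨p, hp⟩

end Fibre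

end Groth.Agent.RamSamLib
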