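import Mathlib

/-!
# Height one primes containing a Weierstrass divisor are principal
-/

set_option autoImplicit false
set_option linter.style.haveILetI false

universe u

open IsLocalRing Polynomial

namespace Groth.Agent.RamSamLib

variable {C : Type u} [CommRing C] [IsDomain C]

/-- A prime of `C[X]` containing a monic polynomial and meeting `C` in zero is principal. -/
theorem isPrincipal_of_comap_eq_bot [IsIntegrallyClosed C] (P : Ideal C[X]) [P.IsPrime]
    (f : C[X]) (hf : f.Monic) (hfP : f ∈ P) (h0 : P.comap (Polynomial.C) = ⊥) : P.IsPrincipal := by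
  let L := C[X] ⧸ P
  let x : L := Ideal.Quotient.mk P Polynomial.X
  have haev : ∀ h : C[X], Polynomial.aeval x h = Ideal.Quotient.mk P h := fun h => by
    have : (Polynomial.aeval x : C[X] →ₐ[C] L) = Ideal.Quotient.mkₐ C P :=
      Polynomial.algHom_ext (by rw [Polynomial.aeval_X]; rfl)
    exact congrFun (congrArg DFunLike.coe this) h
  haveI : FaithfulSMul C L := (faithfulSMul_iff_algebraMap_injective C L).2 (by
    rw [injective_iff_map_eq_zero]
    intro c hc
    have h1 : Polynomial.C c ∈ P := Ideal.Quotient.eq_zero_iff_mem.1 hc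
    have : c ∈ P.comap (Polynomial.C) := h1
    rwa [h0, Ideal.mem_bot] at this)
  have hint : IsIntegral C x := ⟨f, hf, by
    rw [← Polynomial.aeval_def, haev]; exact Ideal.Quotient.eq_zero_iff_mem.2 hfP⟩
  refine ⟨minpoly C x, le_antisymm (fun h hh => Ideal.mem_span_singleton.2 ?_)
    ((Ideal.span_singleton_le_iff_mem _).2 ?_)⟩
  · exact minpoly.isIntegrallyClosed_dvd hint (by rw [haev]; exact Ideal.Quotient.eq_zero_iff_mem.2 hh)
  · exact Ideal.Quotient.eq_zero_iff_mem.1 (by rw [← haev]; exact minpoly.aeval C x)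

/-- **Height one primes of `C⟦T⟧` containing a series which is nonzero modulo the maximal ideal are principal.** -/
theorem isPrincipal_powerSeries [IsLocalRing C] [IsNoetherianRing C] [IsAdicComplete (maximalIdeal C) C]
    [IsIntegrallyClosed C] (q : Ideal (PowerSeries C)) [q.IsPrime] (hq : q.height = 1)
    (g : PowerSeries C) (hg : g ∈ q) (hg0 : g.map (residue C) ≠ 0) : q.IsPrincipal := by
  obtain ⟨f, h, H⟩ := PowerSeries.exists_isWeierstrassFactorization hg0
  have hfm : f.Monic := H.isDistinguishedAt.monic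
  have hfq : (f : PowerSeries C) ∈ q := by
    rw [H.eq_mul] at hg
    exact (Ideal.IsPrime.mem_or_mem ‹_› hg).resolve_right fun hh => Ideal.IsPrime.ne_top ‹_›
      (Ideal.eq_top_of_isUnit_mem _ hh H.isUnit)
  let ι : C[X] →+* PowerSeries C := Polynomial.coeToPowerSeries.ringHom
  let P : Ideal C[X] := q.comap ι
  haveI : P.IsPrime := Ideal.IsPrime.comap ι
  have hfP : f ∈ P := hfq
  let e : (C[X] ⧸ Ideal.span {f}) ≃ₐ[C] PowerSeries C ⧸ Ideal.span {g} := H.algEquivQuotient
  have he : ∀ a : C[X], e (Ideal.Quotient.mk _ a) = Ideal.Quotient.mk _ (a : PowerSeries C) := by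
    intro a
    simp [e]
  have hgq : Ideal.span {g} ≤ q := (Ideal.span_singleton_le_iff_mem _).2 hg
  have hfg : Ideal.span {(f : PowerSeries C)} = Ideal.span {g} := by
    rw [H.eq_mul, Ideal.span_singleton_mul_right_unit H.isUnit]
  have hgen : q = P.map ι := by
    refine le_antisymm (fun s hs => ?_) Ideal.map_comap_le
    obtain ⟨a, ha⟩ := Ideal.Quotient.mk_surjective (e.symm (Ideal.Quotient.mk _ s))
    have h1 : Ideal.Quotient.mk (Ideal.span {g}) (a : PowerSeries C) = Ideal.Quotient.mk _ s := by
      rw [← he, ha, AlgEquiv.apply_symm_apply]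
    have h2 : (a : PowerSeries C) - s ∈ Ideal.span {g} := Ideal.Quotient.eq.1 h1
    have ha' : a ∈ P := by
      show (a : PowerSeries C) ∈ q
      simpa using add_mem (hgq h2) hs
    rw [show s = ι a - ((a : PowerSeries C) - s) by simp [ι]]
    refine sub_mem (Ideal.mem_map_of_mem _ ha') ?_
    rw [← hfg, Ideal.mem_span_singleton] at h2
    obtain ⟨t, ht⟩ := h2
    rw [ht]
    exact Ideal.mul_mem_right _ _ (Ideal.mem_map_of_mem ι hfP)
  have h0 : P.comap (Polynomial.C) = ⊥ := by
    let Q := C[X] ⧸ Ideal.span {f}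
    haveI : Module.Free C Q := (AdjoinRoot.powerBasis' hfm).basis |> fun b => Module.Free.of_basis b
    haveI : Algebra.HasGoingDown C Q := Algebra.HasGoingDown.of_flat
    let P' : Ideal Q := P.map (Ideal.Quotient.mk _)
    have hle : Ideal.span {f} ≤ P := (Ideal.span_singleton_le_iff_mem _).2 hfP
    haveI : P'.IsPrime := Ideal.map_isPrime_of_surjective Ideal.Quotient.mk_surjective (by rw [Ideal.mk_ker]; exact hle)
    have hPc : P'.comap (Ideal.Quotient.mk _) = P := by
      rw [Ideal.comap_map_of_surjective _ Ideal.Quotient.mk_surjective, ← RingHom.ker_eq_comap_bot, Ideal.mk_ker,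
        sup_eq_left.2 hle]
    have hunder : P'.under C = P.comap Polynomial.C := by
      rw [← hPc, Ideal.comap_comap]; rfl
    haveI : (P.comap (Polynomial.C)).IsPrime := Ideal.IsPrime.comap _
    by_contra hne
    -- a prime strictly below
    obtain ⟨R, hRP, hR, hRb⟩ : ∃ R : Ideal Q, R ≤ P' ∧ R.IsPrime ∧ R.under C = ⊥ := by
      haveI : (⊥ : Ideal C).IsPrime := Ideal.isPrime_bot
      haveI : P'.LiesOver (P.comap Polynomial.C) := ⟨hunder.symm⟩
      obtain ⟨R, hR1, hR2, hR3⟩ := Ideal.exists_ideal_le_liesOver_of_le (p := (⊥ : Ideal C))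
        (q := P.comap Polynomial.C) P' bot_le
      exact ⟨R, hR1, hR2, hR3.over.symm⟩
    let R' : Ideal Q := R
    have hlt : R < P' := lt_of_le_of_ne hRP fun h => hne (by rw [← hunder, ← h, hRb])
    -- transport to the power series
    let π : PowerSeries C →+* Q := (e.symm.toRingEquiv.toRingHom).comp (Ideal.Quotient.mk _)
    have hπ : Function.Surjective π := e.symm.surjective.comp Ideal.Quotient.mk_surjective
    have hlt' : R.comap π < P'.comap π := lt_of_le_of_ne (Ideal.comap_mono hRP)
      fun h => hlt.ne (Ideal.comap_injective_of_surjective π hπ h)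
    have hP'q : P'.comap π ≤ q := by
      intro s hs
      obtain ⟨a, ha, hae⟩ := (Ideal.mem_map_iff_of_surjective _ Ideal.Quotient.mk_surjective).1 (Ideal.mem_comap.1 hs)
      have h1 : Ideal.Quotient.mk (Ideal.span {g}) (a : PowerSeries C) = Ideal.Quotient.mk _ s := by
        rw [← he, hae]; exact e.apply_symm_apply _
      have := sub_mem (show (a : PowerSeries C) ∈ q from ha) (hgq (Ideal.Quotient.eq.1 h1))
      simpa using this
    haveI : (R.comap π).IsPrime := hR.comap π
    have hne0 : R.comap π ≠ ⊥ := fun hb => by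
      have : g ∈ R.comap π := by
        rw [Ideal.mem_comap]
        show e.symm (Ideal.Quotient.mk _ g) ∈ R
        rw [Ideal.Quotient.mk_singleton_self, map_zero]
        exact zero_mem _
      rw [hb, Ideal.mem_bot] at this
      exact hg0 (by rw [this, map_zero])
    have h1 : (R.comap π).height + 1 ≤ q.height :=
      Ideal.height_add_one_le_of_lt_of_isPrime (hlt'.trans_le hP'q)
    have h2 : (1 : ℕ∞) ≤ (R.comap π).height := by
      rw [Order.one_le_iff_ne_zero, Ne, Ideal.height_eq_zero_iff_eq_bot]
      exact hne0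
    have : (2 : ℕ∞) ≤ 1 := by
      rw [← hq]
      exact le_trans (le_of_eq_of_le one_add_one_eq_two.symm (add_le_add_left h2 1)) h1
    norm_num at this
  obtain ⟨p, hp⟩ := (isPrincipal_of_comap_eq_bot P f hfm hfP h0).principal
  exact ⟨ι p, by rw [hgen, hp, Ideal.submodule_span_eq, Ideal.map_span, Set.image_singleton]⟩

end Groth.Agent.RamSamLib
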